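import Cfsg.Agent.H333.F4J.Conj
import Cfsg.Agent.ChevalleyStructure.E6Min.Adjoint

/-!
# S5926, D1: the 52 matrices are linearly independent in every characteristic (helper333)
-/

set_option autoImplicit false

namespace Cfsg.Agent.H333.F4J.Inj

open Cfsg.Lie Cfsg.Agent.ChevalleyStructure.E6Min.Tables Cfsg.Agent.ChevalleyStructure.E6Min.Basic
open Cfsg.Agent.ChevalleyStructure.E6Min
open Cfsg.Agent.H952.F4 Cfsg.Agent.H333.F4J.Tab Cfsg.Agent.H333.F4J.Alg Cfsg.Agent.H333.F4J.Ev
  Cfsg.Agent.H333.F4J.Conj
open scoped Matrix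

/-- dual basis -/
def dual (s : ℕ) : List (ℕ × ℤ) :=
  if s < 48 then (dat.getD s []).take 1
  else if s = 48 then [(74, 1), (75, -1)]
  else if s = 49 then [(77, 1), (74, 2), (75, -2)]
  else if s = 50 then [(74, 4), (75, -3)]
  else [(73, 1), (74, 2), (75, -2)]

theorem dual_all : allLt 52 (fun s => ((dual s).all fun e => Nat.blt e.1 78) && allLt 52 fun s' =>
    (((dual s).map fun k => k.2 * cf k.1 (bv s')).sum == if s = s' then 1 else 0)) = true := by
  decide +kernel

/-- the code of a column of `E₆` -/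
def lc : chevE6.Idx → ℕ
  | Sum.inl i => 72 + i.val
  | Sum.inr r => r.val

theorem lc_surj {k : ℕ} (hk : k < 78) : ∃ y, lc y = k := by
  by_cases h : k < 72
  · exact ⟨Sum.inr (⟨k, h⟩ : Fin 72), rfl⟩
  · exact ⟨Sum.inl (⟨k - 72, by omega⟩ : Fin 6), by change 72 + (k - 72) = k; omega⟩

theorem lc_inj {x y : chevE6.Idx} (h : lc x = lc y) : x = y := by
  rcases x with i | r <;> rcases y with j | s
  · have : 72 + i.val = 72 + j.val := h
    rw [Fin.ext (Nat.add_left_cancel this)]
  · have h1 : 72 + i.val = s.val := h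
    have h2 : s.val < 72 := s.isLt
    omega
  · have h1 : r.val = 72 + j.val := h
    have h2 : r.val < 72 := r.isLt
    omega
  · have : r.val = s.val := h
    rw [Fin.ext this]

section
variable {F : Type*} [Field F]

theorem Lm_lc (y : chevE6.Idx) : Lm F (lc y) = Adjoint.B F y := by
  rcases y with i | r
  · exact Lm_add i.val
  · exact Lm_of_lt r.isLt

theorem cf_cons (k : ℕ) (e : ℕ × ℤ) (L : List (ℕ × ℤ)) : cf k (e :: L) = (if e.1 = k then e.2 else 0) + cf k L := by
  unfold cf
  by_cases h : e.1 = k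
  · rw [List.filter_cons_of_pos (by simpa using h), List.map_cons, List.sum_cons, if_pos h]
  · rw [List.filter_cons_of_neg (by simpa using h), if_neg h, zero_add]

theorem evl_eq_comb (L : List (ℕ × ℤ)) (h : ∀ e ∈ L, e.1 < 78) :
    evl F L = Adjoint.comb fun y => ((cf (lc y) L : ℤ) : F) := by
  induction L with
  | nil =>
    rw [evl_nil, Adjoint.comb_def]
    symm
    refine Finset.sum_eq_zero fun y _ => ?_
    have : cf (lc y) [] = 0 := rfl
    rw [this, Int.cast_zero, zero_smul]
  | cons e L ih =>
    rw [evl_cons, ih fun g hg => h g (List.mem_cons_of_mem _ hg), Adjoint.comb_def, Adjoint.comb_def]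
    simp only [cf_cons, Int.cast_add, add_smul]
    rw [Finset.sum_add_distrib]
    congr 1
    obtain ⟨y, hy⟩ := lc_surj (h e List.mem_cons_self)
    rw [Finset.sum_eq_single y]
    · rw [if_pos hy.symm, ← hy, Lm_lc]
    · intro z _ hz
      rw [if_neg, Int.cast_zero, zero_smul]
      intro h1
      exact hz (lc_inj (by rw [hy, h1]))
    · intro h; exact absurd (Finset.mem_univ _) h

theorem comb_eq (c : chevF4.Idx → F) :
    Conj.comb c = Adjoint.comb fun y => ∑ row, c row * ((cf (lc y) (bv (cc row)) : ℤ) : F) := by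
  rw [Conj.comb_def, Adjoint.comb_def]
  have h1 : ∀ row, c row • Conj.B F row = ∑ y, (c row * ((cf (lc y) (bv (cc row)) : ℤ) : F)) • Adjoint.B F y := by
    intro row
    unfold Conj.B
    rw [evl_eq_comb _ (bv_lt (cc_lt row)), Adjoint.comb_def, Finset.smul_sum]
    simp only [smul_smul]
  rw [Finset.sum_congr rfl fun row _ => h1 row, Finset.sum_comm]
  refine Finset.sum_congr rfl fun y _ => ?_
  rw [Finset.sum_smul]

theorem cc_inj {x y : chevF4.Idx} (h : cc x = cc y) : x = y := by
  rcases x with i | r <;> rcases y with j | s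
  · have : 48 + i.val = 48 + j.val := h
    rw [Fin.ext (Nat.add_left_cancel this)]
  · have h1 : 48 + i.val = s.val := h
    have h2 := lt48 s
    omega
  · have h1 : r.val = 48 + j.val := h
    have h2 := lt48 r
    omega
  · have : r.val = s.val := h
    rw [Fin.ext this]

theorem dual_sum (c : chevF4.Idx → F) (s : ℕ) (L : List (ℕ × ℤ)) :
    (L.map fun k => ((k.2 : ℤ) : F) * ∑ row, c row * ((cf k.1 (bv (cc row)) : ℤ) : F)).sum =
      ∑ row, c row * (((L.map fun k => k.2 * cf k.1 (bv (cc row))).sum : ℤ) : F) := by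
  induction L with
  | nil => simp
  | cons e L ih =>
    rw [List.map_cons, List.sum_cons, ih, Finset.mul_sum, ← Finset.sum_add_distrib]
    refine Finset.sum_congr rfl fun row _ => ?_
    rw [List.map_cons, List.sum_cons]
    push_cast
    ring

theorem comb_injective : Function.Injective (Conj.comb (F := F)) := by
  intro c c' h
  rw [comb_eq, comb_eq] at h
  have h1 := Adjoint.comb_injective h
  have h2 : ∀ k < 78, ∑ row, c row * ((cf k (bv (cc row)) : ℤ) : F) = ∑ row, c' row * ((cf k (bv (cc row)) : ℤ) : F) := by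
    intro k hk
    obtain ⟨y, rfl⟩ := lc_surj hk
    exact congrFun h1 y
  have key : ∀ (d : chevF4.Idx → F) (x : chevF4.Idx), d x =
      ((dual (cc x)).map fun k => ((k.2 : ℤ) : F) * ∑ row, d row * ((cf k.1 (bv (cc row)) : ℤ) : F)).sum := by
    intro d x
    rw [dual_sum d (cc x), Finset.sum_eq_single x]
    · have := allLt_spec dual_all (cc x) (cc_lt x)
      rw [Bool.and_eq_true] at this
      have := allLt_spec this.2 (cc x) (cc_lt x)
      rw [beq_iff_eq, if_pos rfl] at this
      rw [this, Int.cast_one, mul_one]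
    · intro y _ hy
      have := allLt_spec dual_all (cc x) (cc_lt x)
      rw [Bool.and_eq_true] at this
      have := allLt_spec this.2 (cc y) (cc_lt y)
      rw [beq_iff_eq, if_neg (fun h => hy (cc_inj h.symm))] at this
      rw [this, Int.cast_zero, mul_zero]
    · intro h; exact absurd (Finset.mem_univ _) h
  funext x
  rw [key c x, key c' x]
  congr 1
  refine List.map_congr_left fun k hk => ?_
  have := allLt_spec dual_all (cc x) (cc_lt x)
  rw [Bool.and_eq_true, List.all_eq_true] at this
  rw [h2 k.1 (Nat.blt_eq.mp (this.1 k hk))]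

end

end Cfsg.Agent.H333.F4J.Inj
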