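import Cfsg.Agent.H333.F4J.Comm
import Cfsg.Agent.H333.F4J.Inj
import Cfsg.Agent.H952.F4.Defs2

/-!
# S5926, D1: the action by conjugation (helper333)
-/

set_option autoImplicit false

namespace Cfsg.Agent.H333.F4J.Ad

open Cfsg.Lie Cfsg.Agent.ChevalleyStructure.E6Min.Tables Cfsg.Agent.ChevalleyStructure.E6Min.Basic
open Cfsg.Agent.ChevalleyStructure.E6Min Cfsg.Agent.ChevalleyStructure.Elts
open Cfsg.Agent.H952.F4 Cfsg.Agent.H333.F4J.Tab Cfsg.Agent.H333.F4J.Alg Cfsg.Agent.H333.F4J.Ev
  Cfsg.Agent.H333.F4J.Conj Cfsg.Agent.H333.F4J.Comm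
open scoped Matrix MatrixGroups

theorem u0_all : allLt 48 (fun r => allLt 27 fun x => (bE r x 0 + bE r x 4 + bE r x 8 == 0)) = true := by
  decide +kernel

section
variable {F : Type*} [Field F]

/-! ### the unit vector -/

theorem u0_apply (x : I27) : u0 F x = if zw (code x) = true then 1 else 0 := by
  unfold u0
  have : (x.1 = 0 ∧ x.2.1 = x.2.2) ↔ zw (code x) = true := by revert x; decide
  by_cases h : x.1 = 0 ∧ x.2.1 = x.2.2
  · rw [if_pos h, if_pos (this.mp h)]
  · rw [if_neg h, if_neg (fun h' => h (this.mpr h'))]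

theorem mulVec_u0 (M : Matrix I27 I27 F) (x : I27) : (M *ᵥ u0 F) x = M x (dec 0) + M x (dec 4) + M x (dec 8) := by
  have h1 : (M *ᵥ u0 F) x = ∑ w, M x w * u0 F w := rfl
  rw [h1, sum3]
  · rw [u0_apply, u0_apply, u0_apply, if_pos (by decide), if_pos (by decide), if_pos (by decide), mul_one, mul_one,
      mul_one]
  · intro w hw
    rw [u0_apply, hw, if_neg (by decide), mul_zero]

theorem Bm_u0 {r : ℕ} (hr : r < 48) : Bm F r *ᵥ u0 F = 0 := by
  ext x
  rw [mulVec_u0, Bm_apply r (dat_lt hr), Bm_apply r (dat_lt hr), Bm_apply r (dat_lt hr), code_dec (by norm_num),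
    code_dec (by norm_num), code_dec (by norm_num), ← Int.cast_add, ← Int.cast_add]
  have := allLt_spec (allLt_spec u0_all r hr) _ (code_lt x)
  rw [beq_iff_eq] at this
  rw [this, Int.cast_zero]
  rfl

theorem Qm_u0 {r : ℕ} (hr : r < 48) : Qm F r *ᵥ u0 F = 0 := by
  have h0 := Bm_u0 (F := F) hr
  rcases shape hr with ⟨e, he, h1, h2⟩ | ⟨e, f, he, h1, h2, h3, h4, h5, h6, h7⟩
  · have hQ : Qm F r = 0 := by unfold Qm; rw [he]
    rw [hQ, Matrix.zero_mulVec]
  · have hB : Bm F r = ((e.2 : ℤ) : F) • Nm F e.1 + ((f.2 : ℤ) : F) • Nm F f.1 := by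
      unfold Bm; rw [he, List.map_cons, List.map_cons, List.map_nil, List.sum_cons, List.sum_cons, List.sum_nil,
        add_zero]
    have hQ : Qm F r = (((e.2 * f.2 : ℤ) : F)) • (Nm F e.1 * Nm F f.1) := by unfold Qm; rw [he]
    rw [hB, Matrix.add_mulVec, Matrix.smul_mulVec, Matrix.smul_mulVec] at h0
    have h8 : ((f.2 : ℤ) : F) • (Nm F f.1 *ᵥ u0 F) = -(((e.2 : ℤ) : F) • (Nm F e.1 *ᵥ u0 F)) :=
      (eq_neg_of_add_eq_zero_right h0)
    rw [hQ, Matrix.smul_mulVec, ← Matrix.mulVec_mulVec, Int.cast_mul, mul_smul, ← Matrix.mulVec_smul, h8,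
      Matrix.mulVec_neg, Matrix.mulVec_smul, Matrix.mulVec_mulVec, Nm_sq h1, Matrix.zero_mulVec, smul_zero, neg_zero,
      smul_zero]

theorem yM_u0 {r : ℕ} (hr : r < 48) (t : F) : yM r t *ᵥ u0 F = u0 F := by
  rw [(Bm_facts hr).1 t, Matrix.add_mulVec, Matrix.add_mulVec, Matrix.one_mulVec, Matrix.smul_mulVec,
    Matrix.smul_mulVec, Bm_u0 hr, Qm_u0 hr, smul_zero, smul_zero, add_zero, add_zero]

/-! ### the group generated by the root elements -/

/-- the root element in the general linear group -/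
def yU (r : ℕ) (t : F) : GL I27 F := ((dat.getD r []).map fun e => zU e.1 (((e.2 : ℤ) : F) * t)).prod

theorem coe_yU {r : ℕ} (hr : r < 48) (t : F) : ((yU r t : GL I27 F) : Matrix I27 I27 F) = yM r t := by
  unfold yU yM
  have hl := dat_lt hr
  generalize dat.getD r [] = L at hl
  induction L with
  | nil => simp
  | cons e L ih =>
    rw [List.map_cons, List.prod_cons, Units.val_mul, ih fun g hg => hl g (List.mem_cons_of_mem _ hg), List.map_cons,
      List.prod_cons, coe_zU (hl e List.mem_cons_self)]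

theorem yU_Zgrp (r : ℕ) (t : F) : yU r t ∈ Zgrp F := by
  unfold yU
  apply Subgroup.list_prod_mem
  intro x hx
  rw [List.mem_map] at hx
  obtain ⟨e, -, rfl⟩ := hx
  exact zU_mem _ _

/-- the group generated by the root elements -/
def FZ (F : Type*) [Field F] : Subgroup (GL I27 F) :=
  Subgroup.closure {g | ∃ (r : ℕ) (t : F), r < 48 ∧ (g : Matrix I27 I27 F) = yM r t}

theorem yU_mem {r : ℕ} (hr : r < 48) (t : F) : yU r t ∈ FZ F := Subgroup.subset_closure ⟨r, t, hr, coe_yU hr t⟩

theorem FZ_le_Zgrp : FZ F ≤ Zgrp F := by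
  unfold FZ
  rw [Subgroup.closure_le]
  rintro g ⟨r, t, hr, hg⟩
  have : g = yU r t := Units.ext (by rw [hg, coe_yU hr])
  rw [this]
  exact yU_Zgrp r t

theorem FZ_cubicT {g : GL I27 F} (hg : g ∈ FZ F) (v : I27 → F) :
    cubicT ((g : Matrix I27 I27 F) *ᵥ v) = cubicT v := by
  have h : g ∈ E6univ F := Inv.Zgrp_le F (FZ_le_Zgrp hg)
  exact h v

theorem FZ_u0 {g : GL I27 F} (hg : g ∈ FZ F) : (g : Matrix I27 I27 F) *ᵥ u0 F = u0 F := by
  unfold FZ at hg
  induction hg using Subgroup.closure_induction with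
  | mem x hx =>
    obtain ⟨r, t, hr, h⟩ := hx
    rw [h, yM_u0 hr]
  | one => rw [Units.val_one, Matrix.one_mulVec]
  | mul x y _ _ hx hy => rw [Units.val_mul, ← Matrix.mulVec_mulVec, hy, hx]
  | inv x _ hx =>
    have h : ((x⁻¹ : GL I27 F) : Matrix I27 I27 F) *ᵥ ((x : Matrix I27 I27 F) *ᵥ u0 F) = u0 F := by
      rw [Matrix.mulVec_mulVec, ← Units.val_mul, inv_mul_cancel, Units.val_one, Matrix.one_mulVec]
    rwa [hx] at h

/-! ### a diagonal vector -/

/-- the vector with diagonal entries `a, b, c` -/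
def dg (a b c : F) : I27 → F := fun x =>
  if code x = 0 then a else if code x = 4 then b else if code x = 8 then c else 0

theorem cubicT_dg (a b c : F) : cubicT (dg a b c) = a * b * c := by
  unfold cubicT
  have h0 : mat3 (dg a b c) 0 = Matrix.diagonal ![a, b, c] := by
    ext i j
    fin_cases i <;> fin_cases j <;> rfl
  have h1 : mat3 (dg a b c) 1 = 0 := by
    ext i j
    fin_cases i <;> fin_cases j <;> rfl
  have h2 : mat3 (dg a b c) 2 = 0 := by
    ext i j
    fin_cases i <;> fin_cases j <;> rfl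
  rw [h0, h1, h2, Matrix.det_diagonal, Fin.prod_univ_three]
  simp

/-- an element of the group commuting with all root vectors is trivial -/
theorem eq_one {g : GL I27 F} (hg : g ∈ FZ F)
    (hc : ∀ r < 48, (g : Matrix I27 I27 F) * Bm F r = Bm F r * (g : Matrix I27 I27 F)) : g = 1 := by
  obtain ⟨α, β, h⟩ := scalar hc
  have hD : zw (code (dec 0)) = true ∧ zw (code (dec 4)) = true ∧ zw (code (dec 8)) = true := by decide
  have n04 : (dec 0 : I27) ≠ dec 4 := by decide
  have n08 : (dec 0 : I27) ≠ dec 8 := by decide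
  have n48 : (dec 4 : I27) ≠ dec 8 := by decide
  have e1 : α + 3 * β = 1 := by
    have h1 := congrFun (FZ_u0 hg) (dec 0)
    rw [mulVec_u0, h, h, h, if_pos rfl, if_neg n04, if_neg n08, hD.1, hD.2.1, hD.2.2, u0_apply, if_pos hD.1] at h1
    simp only [Bool.and_self, if_true] at h1
    linear_combination h1
  -- the image of a diagonal vector
  have key : ∀ a b c : F, (g : Matrix I27 I27 F) *ᵥ dg a b c =
      dg (α * a + β * (a + b + c)) (α * b + β * (a + b + c)) (α * c + β * (a + b + c)) := by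
    intro a b c
    ext x
    have h1 : ((g : Matrix I27 I27 F) *ᵥ dg a b c) x = ∑ w, (g : Matrix I27 I27 F) x w * dg a b c w := rfl
    have hd0 : dg a b c (dec 0) = a := rfl
    have hd4 : dg a b c (dec 4) = b := rfl
    have hd8 : dg a b c (dec 8) = c := rfl
    rw [h1, sum3, hd0, hd4, hd8, h, h, h, hD.1, hD.2.1, hD.2.2]
    · simp only [Bool.and_true]
      unfold dg
      by_cases h0 : code x = 0
      · have hx : x = dec 0 := by rw [← h0, dec_code]
        rw [if_pos h0, hx, if_pos rfl, if_neg n04, if_neg n08, hD.1]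
        simp only [if_true]
        ring
      · by_cases h4 : code x = 4
        · have hx : x = dec 4 := by rw [← h4, dec_code]
          rw [if_neg h0, if_pos h4, hx, if_pos rfl, if_neg n04.symm, if_neg n48, hD.2.1]
          simp only [if_true]
          ring
        · by_cases h8 : code x = 8
          · have hx : x = dec 8 := by rw [← h8, dec_code]
            rw [if_neg h0, if_neg h4, if_pos h8, hx, if_pos rfl, if_neg n08.symm, if_neg n48.symm, hD.2.2]
            simp only [if_true]
            ring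
          · have hz : zw (code x) = false := by
              unfold zw
              simp [h0, h4, h8]
            have k0 : x ≠ dec 0 := fun h' => h0 (by rw [h']; rfl)
            have k4 : x ≠ dec 4 := fun h' => h4 (by rw [h']; rfl)
            have k8 : x ≠ dec 8 := fun h' => h8 (by rw [h']; rfl)
            rw [if_neg h0, if_neg h4, if_neg h8, hz, if_neg k0, if_neg k4, if_neg k8, if_neg (by decide)]
            ring
    · intro w hw
      have : dg a b c w = 0 := by
        unfold zw at hw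
        simp only [Bool.or_eq_false_iff, beq_eq_false_iff_ne] at hw
        unfold dg
        rw [if_neg hw.1.1, if_neg hw.1.2, if_neg hw.2]
      rw [this, mul_zero]
  have e2 : (α + β) * (β * β) = 0 := by
    have h1 := FZ_cubicT hg (dg 1 0 0)
    rw [key, cubicT_dg, cubicT_dg] at h1
    linear_combination h1
  have e3 : (α + 2 * β) * (α + 2 * β) * (2 * β) = 0 := by
    have h1 := FZ_cubicT hg (dg 1 1 0)
    rw [key, cubicT_dg, cubicT_dg] at h1
    linear_combination h1
  have hβ : β = 0 := by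
    by_contra hne
    have h1 : α + β = 0 := (mul_eq_zero.mp e2).resolve_right (mul_ne_zero hne hne)
    have h2 : β * β * (2 * β) = 0 := by
      have : α = -β := by linear_combination h1
      rw [this] at e3
      linear_combination e3
    have h3 : 2 * β = 0 := (mul_eq_zero.mp h2).resolve_left (mul_ne_zero hne hne)
    have h4 : (1 : F) = 0 := by linear_combination -e1 + h1 + h3
    exact one_ne_zero h4
  have hα : α = 1 := by rw [hβ] at e1; linear_combination e1
  apply Units.ext
  ext x z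
  rw [h, hα, hβ, Units.val_one, Matrix.one_apply]
  simp

/-! ### the adjoint action -/

/-- `A` is the matrix of the conjugation by `g` on the span of the `B col` -/
def P (g : Matrix I27 I27 F) (A : Matrix chevF4.Idx chevF4.Idx F) : Prop :=
  ∀ col, g * B F col = Conj.comb (fun row => A row col) * g

theorem P_root (r : Fin chevF4.nroots) (t : F) : P (yM r.val t) (chevF4.xMat F r t) := by
  intro col
  rw [comb_xMat]
  exact conj (lt48 r) (cc_lt col) t

theorem comb_mul_of {g : Matrix I27 I27 F} {A : Matrix chevF4.Idx chevF4.Idx F} (h : P g A) (c : chevF4.Idx → F) :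
    g * Conj.comb c = Conj.comb (fun row => ∑ col, A row col * c col) * g := by
  rw [Conj.comb_def, Matrix.mul_sum]
  have h1 : ∀ col, g * (c col • B F col) = (∑ row, (c col * A row col) • B F row) * g := by
    intro col
    rw [mul_smul_comm, h col, Conj.comb_def, ← smul_mul_assoc, Finset.smul_sum]
    simp only [smul_smul]
  rw [Finset.sum_congr rfl fun col _ => h1 col, ← Matrix.sum_mul, Finset.sum_comm, Conj.comb_def]
  congr 1
  refine Finset.sum_congr rfl fun row _ => ?_
  rw [← Finset.sum_smul]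
  congr 1
  refine Finset.sum_congr rfl fun col _ => ?_
  rw [mul_comm]

theorem P_mul {g h : Matrix I27 I27 F} {A C : Matrix chevF4.Idx chevF4.Idx F} (h1 : P g A) (h2 : P h C) :
    P (g * h) (A * C) := by
  intro col
  rw [mul_assoc, h2 col, ← mul_assoc, comb_mul_of h1, mul_assoc]
  rfl

theorem P_one : P (1 : Matrix I27 I27 F) 1 := by
  intro col
  rw [one_mul, mul_one, Conj.comb_def, Finset.sum_eq_single col]
  · rw [Matrix.one_apply_eq, one_smul]
  · intro row _ h
    rw [Matrix.one_apply_ne h, zero_smul]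
  · intro h; exact absurd (Finset.mem_univ _) h

theorem P_unique {g : GL I27 F} {A C : Matrix chevF4.Idx chevF4.Idx F} (h1 : P (g : Matrix I27 I27 F) A)
    (h2 : P (g : Matrix I27 I27 F) C) : A = C := by
  ext row col
  have h3 : Conj.comb (fun row => A row col) * (g : Matrix I27 I27 F) =
      Conj.comb (fun row => C row col) * (g : Matrix I27 I27 F) := by
    rw [← h1 col, ← h2 col]
  have h4 : Conj.comb (fun row => A row col) = Conj.comb (fun row => C row col) := by
    have := congrArg (· * ((g⁻¹ : GL I27 F) : Matrix I27 I27 F)) h3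
    simpa [mul_assoc, ← Units.val_mul] using this
  exact congrFun (Inj.comb_injective h4) row

theorem P_inv {g : GL I27 F} {A : GL chevF4.Idx F}
    (h : P (g : Matrix I27 I27 F) (A : Matrix chevF4.Idx chevF4.Idx F)) :
    P ((g⁻¹ : GL I27 F) : Matrix I27 I27 F) ((A⁻¹ : GL chevF4.Idx F) : Matrix chevF4.Idx chevF4.Idx F) := by
  intro col
  have h1 := comb_mul_of h (fun row => ((A⁻¹ : GL chevF4.Idx F) : Matrix chevF4.Idx chevF4.Idx F) row col)
  have h2 : Conj.comb (fun row => ∑ c, (A : Matrix chevF4.Idx chevF4.Idx F) row c *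
      ((A⁻¹ : GL chevF4.Idx F) : Matrix chevF4.Idx chevF4.Idx F) c col) = B F col := by
    have h3 : ∀ row, ∑ c, (A : Matrix chevF4.Idx chevF4.Idx F) row c *
      ((A⁻¹ : GL chevF4.Idx F) : Matrix chevF4.Idx chevF4.Idx F) c col = (1 : Matrix chevF4.Idx chevF4.Idx F) row col := by
      intro row
      have h4 : (A : Matrix chevF4.Idx chevF4.Idx F) * ((A⁻¹ : GL chevF4.Idx F) : Matrix chevF4.Idx chevF4.Idx F) = 1 := by
        rw [← Units.val_mul, mul_inv_cancel, Units.val_one]
      rw [← h4]; rfl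
    simp only [h3]
    have := P_one (F := F) col
    rw [one_mul, mul_one] at this
    exact this.symm
  rw [h2] at h1
  have h5 := congrArg (fun X => ((g⁻¹ : GL I27 F) : Matrix I27 I27 F) * X * ((g⁻¹ : GL I27 F) : Matrix I27 I27 F)) h1
  simp only [← mul_assoc] at h5
  rw [← Units.val_mul, inv_mul_cancel, Units.val_one, one_mul, mul_assoc (_ * _), ← Units.val_mul, mul_inv_cancel,
    Units.val_one, mul_one] at h5
  exact h5.symm

theorem coe_xG_lt {r : ℕ} (hr : r < 48) (t : F) :
    ((xG hF4 r t : GL chevF4.Idx F) : Matrix chevF4.Idx chevF4.Idx F) = chevF4.xMat F ⟨r, hr⟩ t :=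
  (coe_xG hF4 r t).trans (x_of_lt hr t)

theorem exists_P {g : GL I27 F} (hg : g ∈ FZ F) : ∃ A : GL chevF4.Idx F, A ∈ chevF4.group F ∧
    P (g : Matrix I27 I27 F) (A : Matrix chevF4.Idx chevF4.Idx F) := by
  unfold FZ at hg
  induction hg using Subgroup.closure_induction with
  | mem x hx =>
    obtain ⟨r, t, hr, h⟩ := hx
    refine ⟨xG hF4 r t, xG_mem_group hF4 _ _, ?_⟩
    rw [h, coe_xG_lt hr]
    exact P_root ⟨r, hr⟩ t
  | one => exact ⟨1, one_mem _, by rw [Units.val_one, Units.val_one]; exact P_one⟩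
  | mul x y _ _ hx hy =>
    obtain ⟨A, hA, h1⟩ := hx
    obtain ⟨C, hC, h2⟩ := hy
    refine ⟨A * C, mul_mem hA hC, ?_⟩
    rw [Units.val_mul, Units.val_mul]
    exact P_mul h1 h2
  | inv x _ hx =>
    obtain ⟨A, hA, h1⟩ := hx
    exact ⟨A⁻¹, inv_mem hA, P_inv h1⟩

/-- the homomorphism from the group on the 27-dimensional module to the Chevalley group -/
noncomputable def ad (F : Type*) [Field F] : FZ F →* chevF4.group F :=
  MonoidHom.mk' (fun g => ⟨(exists_P g.2).choose, (exists_P g.2).choose_spec.1⟩) (by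
    intro g h
    apply Subtype.ext
    apply Units.ext
    refine P_unique (g := ((g * h : FZ F) : GL I27 F)) (exists_P (g * h).2).choose_spec.2 ?_
    have := P_mul (exists_P g.2).choose_spec.2 (exists_P h.2).choose_spec.2
    rw [← Units.val_mul] at this
    exact this)

theorem ad_P (g : FZ F) : P ((g : GL I27 F) : Matrix I27 I27 F)
    (((ad F g : chevF4.group F) : GL chevF4.Idx F) : Matrix chevF4.Idx chevF4.Idx F) :=
  (exists_P g.2).choose_spec.2

theorem ad_yU {r : ℕ} (hr : r < 48) (t : F) :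
    ((ad F ⟨yU r t, yU_mem hr t⟩ : chevF4.group F) : GL chevF4.Idx F) = xG hF4 r t := by
  apply Units.ext
  refine P_unique (g := yU r t) (ad_P ⟨yU r t, yU_mem hr t⟩) ?_
  rw [coe_yU hr, coe_xG_lt hr]
  exact P_root ⟨r, hr⟩ t

theorem ad_surjective : Function.Surjective (ad F) := by
  rw [← MonoidHom.range_eq_top, eq_top_iff]
  have h1 : chevF4.group F ≤ (ad F).range.map (chevF4.group F).subtype := by
    rw [group_le_iff hF4]
    intro r hr t
    exact ⟨ad F ⟨yU r t, yU_mem hr t⟩, ⟨_, rfl⟩, ad_yU hr t⟩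
  rintro ⟨A, hA⟩ -
  obtain ⟨y, hy, h2⟩ := h1 hA
  have : (⟨A, hA⟩ : chevF4.group F) = y := Subtype.ext h2.symm
  rw [this]
  exact hy

theorem ad_injective : Function.Injective (ad F) := by
  rw [injective_iff_map_eq_one]
  intro g hg
  apply Subtype.ext
  refine eq_one g.2 fun r hr => ?_
  have h := ad_P g (Sum.inr ⟨r, hr⟩)
  rw [hg] at h
  change _ = Conj.comb (fun row => (1 : Matrix chevF4.Idx chevF4.Idx F) row (Sum.inr ⟨r, hr⟩)) * _ at h
  have h2 := P_one (F := F) (Sum.inr ⟨r, hr⟩)
  rw [one_mul, mul_one] at h2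
  rw [← h2] at h
  have h3 : B F (Sum.inr ⟨r, hr⟩) = Bm F r := by
    rw [Bm_eq hr]
    unfold Conj.B cc bv
    rw [if_pos hr]
  rwa [h3] at h

/-- the group on the 27-dimensional module is the Chevalley group -/
noncomputable def eqv (F : Type*) [Field F] : FZ F ≃* chevF4.group F :=
  MulEquiv.ofBijective (ad F) ⟨ad_injective, ad_surjective⟩

theorem eqv_symm_xG {r : ℕ} (hr : r < 48) (t : F) (g : chevF4.group F) (hg : (g : GL chevF4.Idx F) = xG hF4 r t) :
    (((eqv F).symm g : FZ F) : GL I27 F) = yU r t := by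
  have : (eqv F).symm g = ⟨yU r t, yU_mem hr t⟩ := by
    rw [MulEquiv.symm_apply_eq]
    apply Subtype.ext
    rw [hg]
    exact (ad_yU hr t).symm
  rw [this]

end

end Cfsg.Agent.H333.F4J.Ad
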