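import Mathlib

/-!
# S5926, D1: the exponential of a square-zero derivation (helper333)
-/

set_option autoImplicit false

namespace Cfsg.Agent.H333.F4J.Alg

section
variable {R : Type*} [Ring R]

/-- In a torsion-free ring: the identities which say that `exp (tB) X exp (-tB) = X + t C₁ + t² C₂`, where
`exp (tB) = 1 + tB + t²Q`. -/
theorem exp_rel (tf : ∀ (x : R) (n : ℕ), n ≠ 0 → n • x = 0 → x = 0) {B Q X C1 C2 : R}
    (hB : B * B = 2 • Q) (hB3 : B * B * B = 0) (h1 : B * X - X * B = C1) (h2 : B * C1 - C1 * B = 2 • C2)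
    (h3 : B * C2 - C2 * B = 0) :
    B * X = C1 + X * B ∧ Q * X = C2 + C1 * B + X * Q ∧ C2 * B + C1 * Q = 0 ∧ C2 * Q = 0 := by
  have e1 : B * X = C1 + X * B := by rw [← h1]; abel
  have e2 : B * C1 = 2 • C2 + C1 * B := by rw [← h2]; abel
  have e3 : B * C2 = C2 * B := sub_eq_zero.mp h3
  have f2 : B * B * X = 2 • C2 + 2 • (C1 * B) + X * (B * B) := by
    rw [mul_assoc, e1, mul_add, e2, ← mul_assoc, e1, add_mul, two_nsmul, two_nsmul, mul_assoc]
    abel
  have f3 : 6 • (C2 * B) + 3 • (C1 * (B * B)) = 0 := by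
    have h : B * (B * B * X) = 0 := by rw [← mul_assoc, ← mul_assoc, hB3, zero_mul]
    rw [f2] at h
    have h' : B * (2 • C2 + 2 • (C1 * B) + X * (B * B)) = 6 • (C2 * B) + 3 • (C1 * (B * B)) := by
      rw [mul_add, mul_add, mul_smul_comm, mul_smul_comm, e3, ← mul_assoc B C1, e2, ← mul_assoc B X, e1, add_mul,
        add_mul]
      have h4 : X * B * (B * B) = 0 := by rw [mul_assoc, ← mul_assoc B B B, hB3, mul_zero]
      have h5 : 2 • C2 * B = 2 • (C2 * B) := by rw [smul_mul_assoc]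
      rw [h4, h5, mul_assoc C1 B B]
      abel
    rw [← h', h]
  have f4 : 12 • (C2 * (B * B)) = 0 := by
    have h : B * (6 • (C2 * B) + 3 • (C1 * (B * B))) = 0 := by rw [f3, mul_zero]
    have h' : B * (6 • (C2 * B) + 3 • (C1 * (B * B))) = 12 • (C2 * (B * B)) := by
      rw [mul_add, mul_smul_comm, mul_smul_comm, ← mul_assoc B C2, e3, ← mul_assoc B C1, e2, add_mul, smul_mul_assoc,
        mul_assoc C2 B B]
      have h4 : C1 * B * (B * B) = 0 := by rw [mul_assoc, ← mul_assoc B B B, hB3, mul_zero]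
      rw [h4]
      abel
    rw [← h', h]
  refine ⟨e1, ?_, ?_, ?_⟩
  · have h : 2 • (Q * X - (C2 + C1 * B + X * Q)) = 0 := by
      have h1 : 2 • (Q * X) = B * B * X := by rw [hB, smul_mul_assoc]
      have h2 : 2 • (X * Q) = X * (B * B) := by rw [hB, mul_smul_comm]
      rw [smul_sub, h1, f2, smul_add, smul_add, h2, sub_self]
    exact sub_eq_zero.mp (tf _ 2 two_ne_zero h)
  · have h : 6 • (C2 * B + C1 * Q) = 0 := by
      rw [smul_add, ← f3, hB, mul_smul_comm, smul_smul, show 3 * 2 = 6 from rfl]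
    exact tf _ 6 (by norm_num) h
  · have h : 24 • (C2 * Q) = 0 := by
      rw [← f4, hB, mul_smul_comm, smul_smul, show 12 * 2 = 24 from rfl]
    exact tf _ 24 (by norm_num) h

end

section
variable {F R : Type*} [CommRing F] [Ring R] [Algebra F R]

/-- the conjugation formula -/
theorem exp_conj {B Q X C1 C2 : R} (t : F) (h1 : B * X = C1 + X * B) (h2 : Q * X = C2 + C1 * B + X * Q)
    (h3 : C2 * B + C1 * Q = 0) (h4 : C2 * Q = 0) :
    (1 + t • B + t ^ 2 • Q) * X = (X + t • C1 + t ^ 2 • C2) * (1 + t • B + t ^ 2 • Q) := by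
  have e3 : C2 * B = -(C1 * Q) := eq_neg_of_add_eq_zero_left h3
  simp only [mul_add, add_mul, one_mul, mul_one, smul_mul_assoc, mul_smul_comm, smul_smul, h1, h2, h4, e3, smul_add,
    smul_zero, smul_neg]
  have e1 : t ^ 2 * t = t * t ^ 2 := by ring
  rw [e1, pow_two]
  abel

end

end Cfsg.Agent.H333.F4J.Alg
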