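import Cfsg.Agent.H333.F4J.Conj
import Cfsg.Agent.ChevalleyStructure.E6Min.Inv

/-!
# S5926, D1: matrices commuting with the root vectors (helper333)
-/

set_option autoImplicit false

namespace Cfsg.Agent.H333.F4J.Comm

open Cfsg.Lie Cfsg.Agent.ChevalleyStructure.E6Min.Tables Cfsg.Agent.ChevalleyStructure.E6Min.Basic
open Cfsg.Agent.ChevalleyStructure.E6Min
open Cfsg.Agent.H952.F4 Cfsg.Agent.H333.F4J.Tab Cfsg.Agent.H333.F4J.Alg Cfsg.Agent.H333.F4J.Ev
  Cfsg.Agent.H333.F4J.Conj
open scoped Matrix

/-- entries of the root vectors -/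
def bE (r x y : ℕ) : ℤ := ((dat.getD r []).map fun e => if srN e.1 x = y then e.2 * sgN e.1 x else 0).sum

/-- the codes of the zero weight -/
def zw (x : ℕ) : Bool := (x == 0) || (x == 4) || (x == 8)

/-- the test for the off-diagonal entries -/
def tst (x z r : ℕ) : Bool :=
  match dat.getD r [] with
  | [e] => ((sgN e.1 x == 0) && !(sgN e.1 z == 0)) || (!(sgN (71 - e.1) x == 0) && (sgN (71 - e.1) z == 0))
  | _ => false

theorem off_all : allLt 27 (fun x => allLt 27 fun z => (x == z) || (zw x && zw z) ||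
    !(allLt 48 fun r => !(tst x z r))) = true := by decide +kernel

/-- the test for the diagonal entries -/
def tst2 (a b c : ℤ) : Bool :=
  ((a * a == 1) && (b == -a) && (c == 0)) || ((a == 0) && (b * b == 1) && (c == -b)) ||
    ((a * a == 1) && (b == 0) && (c == -a))

theorem diag_all : allLt 27 (fun y => zw y || !(allLt 48 fun r => !(tst2 (bE r 0 y) (bE r 4 y) (bE r 8 y)))) = true := by
  decide +kernel

theorem not_allLt {n : ℕ} {p : ℕ → Bool} (h : (!(allLt n fun r => !(p r))) = true) : ∃ k < n, p k = true := by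
  by_contra hc
  push Not at hc
  have : allLt n (fun r => !(p r)) = true := by
    induction n with
    | zero => rfl
    | succ n ih =>
      have h' : allLt (n + 1) (fun r => !(p r)) = (!(p n) && allLt n fun r => !(p r)) := rfl
      have hn : p n = false := by simpa using hc n (by omega)
      rw [h', hn]
      by_cases hh : allLt n (fun r => !(p r)) = true
      · rw [hh]; rfl
      · exact absurd (ih (by simpa using hh) fun k hk => hc k (by omega)) hh
  rw [this] at h
  exact absurd h (by decide)

section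
variable {F : Type*} [Field F]

theorem Bm_apply (r : ℕ) (h : ∀ e ∈ dat.getD r [], e.1 < 72) (x y : I27) :
    Bm F r x y = ((bE r (code x) (code y) : ℤ) : F) := by
  unfold Bm bE
  generalize dat.getD r [] = L at h
  induction L with
  | nil => simp
  | cons e L ih =>
    rw [List.map_cons, List.sum_cons, List.map_cons, List.sum_cons, Matrix.add_apply,
      ih fun g hg => h g (List.mem_cons_of_mem _ hg), Int.cast_add]
    congr 1
    rw [Matrix.smul_apply, Nm_apply, smul_eq_mul]
    have h1 : (y = sr e.1 x) ↔ srN e.1 (code x) = code y := by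
      rw [← code_sr (h e List.mem_cons_self), code_eq_iff]
      exact eq_comm
    by_cases h2 : y = sr e.1 x
    · rw [if_pos h2, if_pos (h1.mp h2), Int.cast_mul]; rfl
    · rw [if_neg h2, if_neg (fun h3 => h2 (h1.mpr h3)), mul_zero, Int.cast_zero]

theorem sg_cast_ne {r : ℕ} {x : I27} (h : sg r x ≠ 0) : ((sg r x : ℤ) : F) ≠ 0 := by
  have h1 : sg r x * sg r x = 1 := by
    unfold sg sgN at *
    split_ifs at * <;> simp_all
  intro h2
  have h3 : ((sg r x * sg r x : ℤ) : F) = 0 := by rw [Int.cast_mul, h2, zero_mul]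
  rw [h1, Int.cast_one] at h3
  exact one_ne_zero h3

theorem off1 {g : Matrix I27 I27 F} {a : ℕ} (ha : a < 72) (hg : g * Nm F a = Nm F a * g) {x z : I27}
    (hx : sg a x = 0) (hz : sg a z ≠ 0) : g x z = 0 := by
  have h := congrFun (congrFun hg x) (sr a z)
  rw [Nm_mul_apply, hx, Int.cast_zero, zero_mul, Matrix.mul_apply, Finset.sum_eq_single z] at h
  · rw [Nm_apply, if_pos rfl] at h
    exact (mul_eq_zero.mp h).resolve_right (sg_cast_ne hz)
  · intro w _ hw
    rw [Nm_apply]
    split_ifs with h1
    · by_cases h2 : sg a w = 0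
      · rw [h2, Int.cast_zero, mul_zero]
      · exfalso
        apply hw
        rw [← (row_opp ha h2).1, ← h1, (row_opp ha hz).1]
    · rw [mul_zero]
  · intro h; exact absurd (Finset.mem_univ _) h

theorem off2 {g : Matrix I27 I27 F} {a : ℕ} (ha : a < 72) (hg : g * Nm F a = Nm F a * g) {x z : I27}
    (hx : sg (71 - a) x ≠ 0) (hz : sg (71 - a) z = 0) : g x z = 0 := by
  have ha' : 71 - a < 72 := by omega
  obtain ⟨h1, h2, -⟩ := row_opp ha' hx
  have haa : 71 - (71 - a) = a := by omega
  rw [haa] at h1 h2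
  have h3 : sg a (sr (71 - a) x) ≠ 0 := by
    intro h; rw [h, mul_zero] at h2; exact absurd h2 (by decide)
  have h := congrFun (congrFun hg (sr (71 - a) x)) z
  rw [Nm_mul_apply, h1, Matrix.mul_apply, Finset.sum_eq_zero] at h
  · exact (mul_eq_zero.mp h.symm).resolve_left (sg_cast_ne h3)
  · intro w _
    rw [Nm_apply]
    split_ifs with h4
    · by_cases h5 : sg a w = 0
      · rw [h5, Int.cast_zero, mul_zero]
      · exfalso
        have h6 := (row_opp ha h5).2.1
        rw [← h4, hz, mul_zero] at h6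
        exact absurd h6 (by decide)
    · rw [mul_zero]

variable {g : Matrix I27 I27 F} (hg : ∀ r < 48, g * Bm F r = Bm F r * g)

include hg

theorem comm_N {r : ℕ} (hr : r < 48) {e : ℕ × ℤ} (he : dat.getD r [] = [e]) :
    e.1 < 72 ∧ g * Nm F e.1 = Nm F e.1 * g := by
  rcases shape hr with ⟨e', he', h1, h2⟩ | ⟨e', f, he', -⟩
  · rw [he] at he'
    have : e = e' := by simpa using he'
    subst this
    refine ⟨h1, ?_⟩
    have hB : Bm F r = ((e.2 : ℤ) : F) • Nm F e.1 := by
      unfold Bm; rw [he, List.map_cons, List.map_nil, List.sum_cons, List.sum_nil, add_zero]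
    have h3 := hg r hr
    rw [hB, mul_smul_comm, smul_mul_assoc] at h3
    have h4 := congrArg (fun M => ((e.2 : ℤ) : F) • M) h3
    simp only [smul_smul] at h4
    rw [← Int.cast_mul, h2, Int.cast_one, one_smul, one_smul] at h4
    exact h4
  · rw [he] at he'
    exact absurd he' (by simp)

theorem off {x z : I27} (hxz : x ≠ z) (h : (zw (code x) && zw (code z)) = false) : g x z = 0 := by
  have h1 := allLt_spec (allLt_spec off_all _ (code_lt x)) _ (code_lt z)
  rw [h, Bool.or_false, Bool.or_eq_true, beq_iff_eq] at h1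
  rcases h1 with h1 | h1
  · exact absurd (code_injective h1) hxz
  · obtain ⟨r, hr, h2⟩ := not_allLt h1
    unfold tst at h2
    split at h2
    · next e he =>
      obtain ⟨ha, hN⟩ := comm_N hg hr he
      simp only [Bool.or_eq_true, Bool.and_eq_true, beq_iff_eq, Bool.not_eq_true', beq_eq_false_iff_ne] at h2
      rcases h2 with ⟨h3, h4⟩ | ⟨h3, h4⟩
      · exact off1 ha hN h3 h4
      · exact off2 ha hN h3 h4
    · exact absurd h2 (by simp)

omit hg in
theorem sum3 {f : I27 → F} (h : ∀ w, zw (code w) = false → f w = 0) :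
    ∑ w, f w = f (dec 0) + f (dec 4) + f (dec 8) := by
  have h1 : ∑ w, f w = ∑ w ∈ ({dec 0, dec 4, dec 8} : Finset I27), f w := by
    symm
    apply Finset.sum_subset (Finset.subset_univ _)
    intro w _ hw
    apply h
    simp only [Finset.mem_insert, Finset.mem_singleton, not_or] at hw
    obtain ⟨h0, h4, h8⟩ := hw
    unfold zw
    simp only [Bool.or_eq_false_iff, beq_eq_false_iff_ne]
    refine ⟨⟨fun h => h0 ?_, fun h => h4 ?_⟩, fun h => h8 ?_⟩ <;> rw [← h, dec_code]
  rw [h1, Finset.sum_insert (by decide), Finset.sum_insert (by decide), Finset.sum_singleton, add_assoc]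

/-- columns -/
theorem R1 {r : ℕ} (hr : r < 48) {x y : ℕ} (hx : x < 27) (hy : y < 27) (hxD : zw x = true) (hyD : zw y = false) :
    g (dec x) (dec 0) * ((bE r 0 y : ℤ) : F) + g (dec x) (dec 4) * ((bE r 4 y : ℤ) : F) +
      g (dec x) (dec 8) * ((bE r 8 y : ℤ) : F) = ((bE r x y : ℤ) : F) * g (dec y) (dec y) := by
  have h := congrFun (congrFun (hg r hr) (dec x)) (dec y)
  rw [Matrix.mul_apply, Matrix.mul_apply] at h
  have hl := dat_lt hr
  rw [sum3, Finset.sum_eq_single (dec y), Bm_apply r hl, Bm_apply r hl, Bm_apply r hl, Bm_apply r hl,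
    code_dec hx, code_dec hy] at h
  · exact h
  · intro w _ hw
    rw [off hg hw (by rw [code_dec hy, hyD, Bool.and_false]), mul_zero]
  · intro h; exact absurd (Finset.mem_univ _) h
  · intro w hw
    rw [off hg ?_ (by rw [hw, Bool.and_false]), zero_mul]
    intro h1
    rw [← h1, code_dec hx, hxD] at hw
    exact absurd hw (by decide)

/-- rows -/
theorem R2 {r : ℕ} (hr : r < 48) {x y : ℕ} (hx : x < 27) (hy : y < 27) (hxD : zw x = true) (hyD : zw y = false) :
    ((bE r y 0 : ℤ) : F) * g (dec 0) (dec x) + ((bE r y 4 : ℤ) : F) * g (dec 4) (dec x) +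
      ((bE r y 8 : ℤ) : F) * g (dec 8) (dec x) = g (dec y) (dec y) * ((bE r y x : ℤ) : F) := by
  have h := congrFun (congrFun (hg r hr) (dec y)) (dec x)
  rw [Matrix.mul_apply, Matrix.mul_apply] at h
  have hl := dat_lt hr
  symm at h
  rw [sum3, Finset.sum_eq_single (dec y), Bm_apply r hl, Bm_apply r hl, Bm_apply r hl, Bm_apply r hl,
    code_dec hx, code_dec hy] at h
  · exact h
  · intro w _ hw
    rw [off hg hw.symm (by rw [code_dec hy, hyD, Bool.false_and]), zero_mul]
  · intro h; exact absurd (Finset.mem_univ _) h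
  · intro w hw
    rw [off hg ?_ (by rw [hw, Bool.false_and]), mul_zero]
    intro h1
    rw [h1, code_dec hx, hxD] at hw
    exact absurd hw (by decide)

/-- the commutant -/
theorem scalar : ∃ α β : F, ∀ x z : I27, g x z =
    (if x = z then α else 0) + if (zw (code x) && zw (code z)) = true then β else 0 := by
  have c1 := fun x (hx : x < 27) (hxD : zw x = true) =>
    R1 hg (r := 20) (y := 1) (by norm_num) hx (by norm_num) hxD (by decide)
  have c5 := fun x (hx : x < 27) (hxD : zw x = true) =>
    R1 hg (r := 8) (y := 5) (by norm_num) hx (by norm_num) hxD (by decide)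
  have c2 := fun x (hx : x < 27) (hxD : zw x = true) =>
    R1 hg (r := 7) (y := 2) (by norm_num) hx (by norm_num) hxD (by decide)
  have d1 := fun x (hx : x < 27) (hxD : zw x = true) =>
    R2 hg (r := 27) (y := 1) (by norm_num) hx (by norm_num) hxD (by decide)
  have d5 := fun x (hx : x < 27) (hxD : zw x = true) =>
    R2 hg (r := 39) (y := 5) (by norm_num) hx (by norm_num) hxD (by decide)
  have b1 : bE 20 0 1 = 1 ∧ bE 20 4 1 = -1 ∧ bE 20 8 1 = 0 := by decide +kernel
  have b5 : bE 8 0 5 = 0 ∧ bE 8 4 5 = 1 ∧ bE 8 8 5 = -1 := by decide +kernel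
  have b2 : bE 7 0 2 = -1 ∧ bE 7 4 2 = 0 ∧ bE 7 8 2 = 1 := by decide +kernel
  have e1 : bE 27 1 0 = 1 ∧ bE 27 1 4 = -1 ∧ bE 27 1 8 = 0 := by decide +kernel
  have e5 : bE 39 5 0 = 0 ∧ bE 39 5 4 = 1 ∧ bE 39 5 8 = -1 := by decide +kernel
  have c10 := c1 0 (by norm_num) (by decide)
  have c14 := c1 4 (by norm_num) (by decide)
  have c18 := c1 8 (by norm_num) (by decide)
  have c50 := c5 0 (by norm_num) (by decide)
  have c54 := c5 4 (by norm_num) (by decide)
  have c58 := c5 8 (by norm_num) (by decide)
  have c20 := c2 0 (by norm_num) (by decide)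
  have c24 := c2 4 (by norm_num) (by decide)
  have c28 := c2 8 (by norm_num) (by decide)
  have d10 := d1 0 (by norm_num) (by decide)
  have d14 := d1 4 (by norm_num) (by decide)
  have d18 := d1 8 (by norm_num) (by decide)
  have d50 := d5 0 (by norm_num) (by decide)
  have d54 := d5 4 (by norm_num) (by decide)
  have d58 := d5 8 (by norm_num) (by decide)
  rw [b1.1, b1.2.1, b1.2.2] at c10 c14 c18
  rw [b5.1, b5.2.1, b5.2.2] at c50 c54 c58
  rw [b2.1, b2.2.1, b2.2.2] at c20 c24 c28
  rw [e1.1, e1.2.1, e1.2.2] at d10 d14 d18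
  rw [e5.1, e5.2.1, e5.2.2] at d50 d54 d58
  push_cast at c10 c14 c18 c50 c54 c58 c20 c24 c28 d10 d14 d18 d50 d54 d58
  set α := g (dec 1) (dec 1) with hα
  set β := g (dec 0) (dec 4) with hβ
  have G00 : g (dec 0) (dec 0) = α + β := by linear_combination c10
  have G08 : g (dec 0) (dec 8) = β := by linear_combination -c50
  have G40 : g (dec 4) (dec 0) = β := by linear_combination c10 - d10
  have G44 : g (dec 4) (dec 4) = α + β := by linear_combination -d14
  have G48 : g (dec 4) (dec 8) = β := by linear_combination -d18 - c50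
  have G80 : g (dec 8) (dec 0) = β := by linear_combination c10 - d10 - d50
  have G84 : g (dec 8) (dec 4) = β := by linear_combination c10 - d10 - d50 - c18
  have h22 : g (dec 2) (dec 2) = α := by linear_combination c20 + G00 - G08
  have G88 : g (dec 8) (dec 8) = α + β := by linear_combination c28 + G80 + h22
  refine ⟨α, β, fun x z => ?_⟩
  by_cases hD : (zw (code x) && zw (code z)) = true
  · rw [if_pos hD]
    rw [Bool.and_eq_true] at hD
    obtain ⟨h1, h2⟩ := hD
    unfold zw at h1 h2
    simp only [Bool.or_eq_true, beq_iff_eq] at h1 h2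
    have hx : x = dec (code x) := (dec_code x).symm
    have hz : z = dec (code z) := (dec_code z).symm
    have n04 : (dec 0 : I27) ≠ dec 4 := by decide
    have n08 : (dec 0 : I27) ≠ dec 8 := by decide
    have n48 : (dec 4 : I27) ≠ dec 8 := by decide
    rcases h1 with (h1 | h1) | h1 <;> rcases h2 with (h2 | h2) | h2 <;> rw [h1] at hx <;> rw [h2] at hz <;>
      rw [hx, hz]
    · rw [if_pos rfl, G00]
    · rw [if_neg n04, zero_add]
    · rw [if_neg n08, zero_add, G08]
    · rw [if_neg n04.symm, zero_add, G40]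
    · rw [if_pos rfl, G44]
    · rw [if_neg n48, zero_add, G48]
    · rw [if_neg n08.symm, zero_add, G80]
    · rw [if_neg n48.symm, zero_add, G84]
    · rw [if_pos rfl, G88]
  · rw [if_neg hD, add_zero]
    by_cases hxz : x = z
    · subst hxz
      rw [if_pos rfl]
      have hzw : zw (code x) = false := by
        rw [Bool.and_self] at hD
        simpa using hD
      have h1 := allLt_spec diag_all _ (code_lt x)
      rw [hzw, Bool.false_or] at h1
      obtain ⟨r, hr, h2⟩ := not_allLt h1
      have k0 := R1 hg hr (x := 0) (by norm_num) (code_lt x) (by decide) hzw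
      have k4 := R1 hg hr (x := 4) (by norm_num) (code_lt x) (by decide) hzw
      rw [dec_code] at k0 k4
      rw [G00, ← hβ, G08] at k0
      rw [G40, G44, G48] at k4
      unfold tst2 at h2
      simp only [Bool.or_eq_true, Bool.and_eq_true, beq_iff_eq] at h2
      rcases h2 with (⟨⟨h3, h4⟩, h5⟩ | ⟨⟨h3, h4⟩, h5⟩) | ⟨⟨h3, h4⟩, h5⟩
      · rw [h4, h5] at k0
        have h6 : ((bE r 0 (code x) : ℤ) : F) * ((bE r 0 (code x) : ℤ) : F) = 1 := by
          rw [← Int.cast_mul, h3, Int.cast_one]
        push_cast at k0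
        linear_combination (-((bE r 0 (code x) : ℤ) : F)) * k0 + (α - g x x) * h6
      · rw [h3, h5] at k4
        have h6 : ((bE r 4 (code x) : ℤ) : F) * ((bE r 4 (code x) : ℤ) : F) = 1 := by
          rw [← Int.cast_mul, h4, Int.cast_one]
        push_cast at k4
        linear_combination (-((bE r 4 (code x) : ℤ) : F)) * k4 + (α - g x x) * h6
      · rw [h4, h5] at k0
        have h6 : ((bE r 0 (code x) : ℤ) : F) * ((bE r 0 (code x) : ℤ) : F) = 1 := by
          rw [← Int.cast_mul, h3, Int.cast_one]
        push_cast at k0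
        linear_combination (-((bE r 0 (code x) : ℤ) : F)) * k0 + (α - g x x) * h6
    · rw [if_neg hxz]
      exact off hg hxz (by simpa using hD)

end

end Cfsg.Agent.H333.F4J.Comm
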