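import Cfsg.Agent.H333.F4J.Ev

/-!
# S5926, D1: conjugation by the root elements on the 27-dimensional module (helper333)
-/

set_option autoImplicit false

namespace Cfsg.Agent.H333.F4J.Conj

open Cfsg.Lie Cfsg.Agent.ChevalleyStructure.E6Min.Tables Cfsg.Agent.ChevalleyStructure.E6Min.Basic
open Cfsg.Agent.ChevalleyStructure.E6Min.Checks2
open Cfsg.Agent.H952.F4 Cfsg.Agent.H333.F4J.Tab Cfsg.Agent.H333.F4J.Alg Cfsg.Agent.H333.F4J.Ev
open scoped Matrix

section
variable (F : Type*) [CommRing F]

/-- reduction of integral matrices -/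
def ph : Matrix I27 I27 ℤ →+* Matrix I27 I27 F := (Int.castRingHom F).mapMatrix

theorem ph_apply (M : Matrix I27 I27 ℤ) (x y : I27) : ph F M x y = ((M x y : ℤ) : F) := rfl

theorem ph_Nm (r : ℕ) : ph F (Nm ℤ r) = Nm F r := by
  ext x y
  rw [ph_apply, Nm_apply, Nm_apply]
  split_ifs <;> simp

theorem ph_Hm (i : ℕ) : ph F (Hm ℤ i) = Hm F i := by
  ext x y
  rw [ph_apply, Hm_apply, Hm_apply]
  split_ifs <;> simp

theorem ph_Lm (k : ℕ) : ph F (Lm ℤ k) = Lm F k := by
  unfold Lm
  split_ifs
  · exact ph_Nm F k
  · exact ph_Hm F _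

theorem ph_smul (c : ℤ) (M : Matrix I27 I27 ℤ) : ph F (((c : ℤ) : ℤ) • M) = (c : F) • ph F M := by
  ext x y
  rw [ph_apply, Matrix.smul_apply, Matrix.smul_apply, ph_apply, smul_eq_mul, smul_eq_mul, Int.cast_mul]

theorem ph_evl (L : List (ℕ × ℤ)) : ph F (evl ℤ L) = evl F L := by
  induction L with
  | nil => rw [evl_nil, evl_nil, map_zero]
  | cons e L ih => rw [evl_cons, evl_cons, map_add, ih, Int.cast_id, ph_smul, ph_Lm]

theorem ph_Qm (r : ℕ) : ph F (Qm ℤ r) = Qm F r := by
  unfold Qm
  split
  · rw [Int.cast_id, ph_smul, map_mul, ph_Nm, ph_Nm]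
  · rw [map_zero]

variable {F}

/-- torsion-free -/
theorem tfree (x : Matrix I27 I27 ℤ) (n : ℕ) (hn : n ≠ 0) (h : n • x = 0) : x = 0 := by
  ext i j
  have := congrFun (congrFun h i) j
  rw [Matrix.smul_apply, Matrix.zero_apply, nsmul_eq_mul] at this
  have h' := mul_eq_zero.mp this
  rcases h' with h' | h'
  · exact absurd (by exact_mod_cast h') hn
  · exact h'

/-- the four relations -/
theorem rel4 {r s : ℕ} (hr : r < 48) (hs : s < 52) :
    Bm F r * evl F (bv s) = evl F (ex (c1 r s)) + evl F (bv s) * Bm F r ∧
    Qm F r * evl F (bv s) = evl F (ex (c2 r s)) + evl F (ex (c1 r s)) * Bm F r + evl F (bv s) * Qm F r ∧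
    evl F (ex (c2 r s)) * Bm F r + evl F (ex (c1 r s)) * Qm F r = 0 ∧ evl F (ex (c2 r s)) * Qm F r = 0 := by
  obtain ⟨h1, h2, h3⟩ := rel3 (F := ℤ) hr hs
  obtain ⟨-, hB, hB3⟩ := Bm_facts (F := ℤ) hr
  rw [Bm_eq hr] at hB hB3
  have h2' : (2 : ℤ) • evl ℤ (ex (c2 r s)) = 2 • evl ℤ (ex (c2 r s)) := by
    rw [two_smul, two_nsmul]
  rw [h2'] at h2
  obtain ⟨e1, e2, e3, e4⟩ := exp_rel tfree hB hB3 h1 h2 h3
  have hBF : Bm F r = ph F (evl ℤ (dat.getD r [])) := by rw [ph_evl, Bm_eq hr]
  rw [hBF, ← ph_Qm, ← ph_evl F (bv s), ← ph_evl F (ex (c1 r s)), ← ph_evl F (ex (c2 r s))]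
  simp only [← map_mul, ← map_add]
  rw [e1, e2, e3, e4]
  exact ⟨rfl, rfl, map_zero _, map_zero _⟩

/-- the conjugation by a root element -/
theorem conj {r s : ℕ} (hr : r < 48) (hs : s < 52) (t : F) :
    yM r t * evl F (bv s) =
      (evl F (bv s) + t • evl F (ex (c1 r s)) + t ^ 2 • evl F (ex (c2 r s))) * yM r t := by
  obtain ⟨e1, e2, e3, e4⟩ := rel4 (F := F) hr hs
  rw [(Bm_facts hr).1 t]
  exact exp_conj t e1 e2 e3 e4

end

section
variable (F : Type*) [Field F]

/-- the code of a column -/
def cc : chevF4.Idx → ℕ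
  | Sum.inl i => 48 + i.val
  | Sum.inr r => r.val

/-- the 52 matrices -/
def B (x : chevF4.Idx) : Matrix I27 I27 F := evl F (bv (cc x))

variable {F}

theorem lt48 (r : Fin chevF4.nroots) : r.val < 48 := r.isLt

theorem lt4 (i : Fin chevF4.rank) : i.val < 4 := i.isLt

theorem cc_lt (x : chevF4.Idx) : cc x < 52 := by
  rcases x with i | r
  · have := lt4 i; change 48 + i.val < 52; omega
  · have := lt48 r; change r.val < 52; omega

/-- the linear combination with given coefficients -/
def comb (c : chevF4.Idx → F) : Matrix I27 I27 F := ∑ row, c row • B F row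

theorem comb_def (c : chevF4.Idx → F) : comb c = ∑ row, c row • B F row := rfl

theorem comb_split (c : chevF4.Idx → F) : comb c = (∑ i : Fin chevF4.rank, c (Sum.inl i) • B F (Sum.inl i)) +
    ∑ r : Fin chevF4.nroots, c (Sum.inr r) • B F (Sum.inr r) := by
  unfold comb
  exact Fintype.sum_sum_type _

theorem evl_ex (L : List (ℕ × ℤ)) : evl F (ex L) = (L.map fun e => ((e.2 : ℤ) : F) • evl F (bv e.1)).sum := by
  induction L with
  | nil => rfl
  | cons e L ih =>
    have : ex (e :: L) = scl e.2 (bv e.1) ++ ex L := rfl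
    rw [this, evl_append, ih, evl_scl, List.map_cons, List.sum_cons]

theorem sum_single (a : ℕ) (ha : a < 48) (x : F) :
    ∑ u : Fin chevF4.nroots, (if a = u.val then x else 0) • B F (Sum.inr u) = x • evl F (bv a) := by
  rw [Finset.sum_eq_single (⟨a, ha⟩ : Fin chevF4.nroots)]
  · rw [if_pos rfl]; rfl
  · intro u _ hu
    rw [if_neg, zero_smul]
    intro h
    exact hu (Fin.ext h.symm)
  · intro h; exact absurd (Finset.mem_univ _) h

/-- the chain coefficients -/
theorem chain_shape {r s : ℕ} (hr : r < 48) (hs : s < 48) :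
    (chF r s = [] ∧ ∀ u, chevF4.chainCoeff r s u = []) ∨
    (∃ a : ℕ × ℤ, a.1 < 48 ∧ chF r s = [a] ∧ ∀ u, chevF4.chainCoeff r s u = if a.1 = u then [(1, a.2)] else []) ∨
    (∃ a b : ℕ × ℤ, a.1 < 48 ∧ b.1 < 48 ∧ chF r s = [a, b] ∧ ∀ u, chevF4.chainCoeff r s u =
      (if a.1 = u then [(1, a.2)] else []) ++ if b.1 = u then [(2, b.2)] else []) := by
  have h := allLt_spec (allLt_spec chE_all r hr) s hs
  unfold chE at h
  rcases hL : (chevF4.chain.getD r #[]).toList.filter (fun e => e.1 = s) with _ | ⟨e, L⟩
  · left
    constructor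
    · unfold chF; rw [hL]
    · intro u; unfold ChevalleyDatum.chainCoeff; rw [hL, List.flatMap_nil]
  · rw [hL] at h
    rcases L with _ | ⟨e', L⟩
    · dsimp only at h
      have hch : chF r s = e.2.toList := by unfold chF; rw [hL]
      have hcc : ∀ u, chevF4.chainCoeff r s u =
          ((e.2.toList.zipIdx).filter (fun q => q.1.1 = u)).map fun q => (q.2 + 1, q.1.2) := by
        intro u; unfold ChevalleyDatum.chainCoeff; rw [hL, List.flatMap_cons, List.flatMap_nil, List.append_nil]
      rcases hM : e.2.toList with _ | ⟨a, M⟩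
      · rw [hM] at h; exact absurd h (by simp)
      · rw [hM] at h
        rcases M with _ | ⟨b, M⟩
        · right; left
          refine ⟨a, Nat.blt_eq.mp h, by rw [hch, hM], fun u => ?_⟩
          rw [hcc, hM]
          by_cases hu : a.1 = u
          · rw [if_pos hu]; simp [hu]
          · rw [if_neg hu]; simp [hu]
        · rcases M with _ | ⟨c, M⟩
          · right; right
            dsimp only at h
            rw [Bool.and_eq_true] at h
            refine ⟨a, b, Nat.blt_eq.mp h.1, Nat.blt_eq.mp h.2, by rw [hch, hM], fun u => ?_⟩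
            rw [hcc, hM]
            by_cases hu : a.1 = u
            · by_cases hv : b.1 = u
              · rw [if_pos hu, if_pos hv]; simp [hu, hv]
              · rw [if_pos hu, if_neg hv]; simp [hu, hv]
            · by_cases hv : b.1 = u
              · rw [if_neg hu, if_pos hv]; simp [hu, hv]
              · rw [if_neg hu, if_neg hv]; simp [hu, hv]
          · exact absurd h (by simp)
    · exact absurd h (by simp)

theorem xMat_self_apply (r : Fin chevF4.nroots) (t : F) (row : chevF4.Idx) :
    chevF4.xMat F r t row (Sum.inr r) = if row = Sum.inr r then 1 else 0 := by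
  have h0 : chevF4.xMat F r t row (Sum.inr r) =
      (match row with | Sum.inr u => if u = r then 1 else 0 | Sum.inl _ => 0) := by
    unfold ChevalleyDatum.xMat
    rw [Matrix.of_apply]
    show (if r = r then _ else _) = _
    rw [if_pos rfl]
    rcases row with i | u <;> rfl
  rw [h0]
  rcases row with i | u
  · simp
  · simp

theorem xMat_opp_apply (r s : Fin chevF4.nroots) (hne : s ≠ r) (hs : s.val = chevF4.negIdx.getD r.val 0) (t : F)
    (row : chevF4.Idx) :
    chevF4.xMat F r t row (Sum.inr s) =
      (match row with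
         | Sum.inl i => (((chevF4.coroot.getD r.val #[]).getD i.val 0 : ℤ) : F) * t
         | Sum.inr u => if u = s then 1 else if u = r then -(t ^ 2) else 0) := by
  unfold ChevalleyDatum.xMat
  rw [Matrix.of_apply]
  show (if s = r then _ else if s.val = chevF4.negIdx.getD r.val 0 then _ else _) = _
  rw [if_neg hne, if_pos hs]
  rcases row with i | u <;> rfl

theorem xMat_other_apply (r s : Fin chevF4.nroots) (h1 : s ≠ r) (h2 : s.val ≠ chevF4.negIdx.getD r.val 0) (t : F)
    (row : chevF4.Idx) :
    chevF4.xMat F r t row (Sum.inr s) =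
      (match row with
         | Sum.inl _ => 0
         | Sum.inr u => (if u = s then 1 else 0) +
             ((chevF4.chainCoeff r.val s.val u.val).map fun km => ((km.2 : ℤ) : F) * t ^ km.1).sum) := by
  unfold ChevalleyDatum.xMat
  rw [Matrix.of_apply]
  show (if s = r then _ else if s.val = chevF4.negIdx.getD r.val 0 then _ else _) = _
  rw [if_neg h1, if_neg h2]
  rcases row with i | u <;> rfl

/-- the columns of `x_r(t)` -/
theorem comb_xMat (r : Fin chevF4.nroots) (t : F) (col : chevF4.Idx) :
    comb (fun row => chevF4.xMat F r t row col) =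
      evl F (bv (cc col)) + t • evl F (ex (c1 r.val (cc col))) + t ^ 2 • evl F (ex (c2 r.val (cc col))) := by
  rcases col with i | s
  · -- a coroot
    have hcc : cc (Sum.inl i) = 48 + i.val := rfl
    have h1 : c1 r.val (cc (Sum.inl i)) = [(r.val, -((chevF4.cartanSR.getD i.val #[]).getD r.val 0))] := by
      unfold c1
      rw [hcc, if_neg (by omega), Nat.add_sub_cancel_left]
    have h2 : c2 r.val (cc (Sum.inl i)) = [] := by
      unfold c2
      rw [hcc, if_neg (by omega)]
    rw [h1, h2, evl_ex, evl_ex, comb_split]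
    have e1 : ∑ j : Fin chevF4.rank, chevF4.xMat F r t (Sum.inl j) (Sum.inl i) • B F (Sum.inl j) = B F (Sum.inl i) := by
      rw [Finset.sum_eq_single i]
      · change (if i = i then (1 : F) else 0) • _ = _
        rw [if_pos rfl, one_smul]
      · intro j _ hj
        change (if j = i then (1 : F) else 0) • _ = _
        rw [if_neg hj, zero_smul]
      · intro h; exact absurd (Finset.mem_univ _) h
    have e2 : ∑ u : Fin chevF4.nroots, chevF4.xMat F r t (Sum.inr u) (Sum.inl i) • B F (Sum.inr u) =
        (-(((chevF4.cartanSR.getD i.val #[]).getD r.val 0 : ℤ) : F) * t) • B F (Sum.inr r) := by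
      rw [Finset.sum_eq_single r]
      · change (if r = r then -(((chevF4.cartanSR.getD i.val #[]).getD r.val 0 : ℤ) : F) * t else 0) • _ = _
        rw [if_pos rfl]
      · intro u _ hu
        change (if u = r then -(((chevF4.cartanSR.getD i.val #[]).getD r.val 0 : ℤ) : F) * t else 0) • _ = _
        rw [if_neg hu, zero_smul]
      · intro h; exact absurd (Finset.mem_univ _) h
    refine (congrArg₂ (· + ·) e1 e2).trans ?_
    simp only [List.map_cons, List.map_nil, List.sum_cons, List.sum_nil, add_zero, smul_zero, Int.cast_neg]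
    rw [smul_smul, mul_comm]
    rfl
  · have hcc : cc (Sum.inr s) = s.val := rfl
    by_cases hsr : s = r
    · subst hsr
      have h1 : c1 s.val (cc (Sum.inr s)) = [] := by
        unfold c1; rw [hcc, if_pos (lt48 s), if_pos rfl]
      have h2 : c2 s.val (cc (Sum.inr s)) = [] := by
        unfold c2; rw [hcc, if_pos (lt48 s), if_pos rfl]
      rw [h1, h2, evl_ex, comb_def]
      simp only [xMat_self_apply]
      rw [Finset.sum_eq_single (Sum.inr s)]
      · rw [if_pos rfl, one_smul, List.map_nil, List.sum_nil, smul_zero, smul_zero, add_zero, add_zero]; rfl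
      · intro u _ hu; rw [if_neg hu, zero_smul]
      · intro h; exact absurd (Finset.mem_univ _) h
    · have hsr' : s.val ≠ r.val := fun h => hsr (Fin.ext h)
      by_cases hopp : s.val = chevF4.negIdx.getD r.val 0
      · have h1 : c1 r.val (cc (Sum.inr s)) =
            (List.range 4).map fun i => (48 + i, (chevF4.coroot.getD r.val #[]).getD i 0) := by
          unfold c1; rw [hcc, if_pos (lt48 s), if_neg hsr', if_pos hopp]
        have h2 : c2 r.val (cc (Sum.inr s)) = [(r.val, -1)] := by
          unfold c2; rw [hcc, if_pos (lt48 s), if_neg hsr', if_pos hopp]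
        rw [h1, h2, evl_ex, evl_ex, comb_split, List.map_map, sum_range_list]
        simp only [xMat_opp_apply r s hsr hopp]
        have e1 : ∑ i : Fin chevF4.rank, ((((chevF4.coroot.getD r.val #[]).getD i.val 0 : ℤ) : F) * t) •
            B F (Sum.inl i) = t • ∑ i ∈ Finset.range 4, ((((chevF4.coroot.getD r.val #[]).getD i 0 : ℤ) : F)) •
              evl F (bv (48 + i)) := by
          rw [Finset.smul_sum, Finset.sum_range fun i => t • ((((chevF4.coroot.getD r.val #[]).getD i 0 : ℤ) : F) •
            evl F (bv (48 + i)))]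
          refine Finset.sum_congr rfl fun i _ => ?_
          rw [smul_smul, mul_comm]
          rfl
        have e2 : ∑ u : Fin chevF4.nroots, (if u = s then (1 : F) else if u = r then -(t ^ 2) else 0) •
            B F (Sum.inr u) = B F (Sum.inr s) - t ^ 2 • B F (Sum.inr r) := by
          have : ∀ u : Fin chevF4.nroots, (if u = s then (1 : F) else if u = r then -(t ^ 2) else 0) •
              B F (Sum.inr u) = (if u = s then B F (Sum.inr u) else 0) -
                (if u = r then t ^ 2 • B F (Sum.inr u) else 0) := by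
            intro u
            by_cases h1 : u = s
            · rw [if_pos h1, if_pos h1, if_neg (by rw [h1]; exact hsr), one_smul, sub_zero]
            · rw [if_neg h1, if_neg h1]
              by_cases h2 : u = r
              · rw [if_pos h2, if_pos h2, neg_smul, zero_sub]
              · rw [if_neg h2, if_neg h2, zero_smul, sub_zero]
          rw [Finset.sum_congr rfl fun u _ => this u, Finset.sum_sub_distrib, Finset.sum_ite_eq' Finset.univ s,
            Finset.sum_ite_eq' Finset.univ r, if_pos (Finset.mem_univ _), if_pos (Finset.mem_univ _)]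
        refine (congrArg₂ (· + ·) e1 e2).trans ?_
        simp only [List.map_cons, List.map_nil, List.sum_cons, List.sum_nil, add_zero, Int.cast_neg, Int.cast_one,
          neg_smul, one_smul, smul_neg]
        have e3 : B F (Sum.inr s) = evl F (bv (cc (Sum.inr s))) := rfl
        have e4 : B F (Sum.inr r) = evl F (bv r.val) := rfl
        rw [e3, e4]
        simp only [Function.comp]
        abel
      · have h1 : c1 r.val (cc (Sum.inr s)) = (chF r.val s.val).take 1 := by
          unfold c1; rw [hcc, if_pos (lt48 s), if_neg hsr', if_neg hopp]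
        have h2 : c2 r.val (cc (Sum.inr s)) = (chF r.val s.val).drop 1 := by
          unfold c2; rw [hcc, if_pos (lt48 s), if_neg hsr', if_neg hopp]
        rw [h1, h2, evl_ex, evl_ex, comb_split]
        simp only [xMat_other_apply r s hsr hopp]
        have e1 : ∑ i : Fin chevF4.rank, (0 : F) • B F (Sum.inl i) = 0 :=
          Finset.sum_eq_zero fun i _ => zero_smul _ _
        have e0 : ∑ u : Fin chevF4.nroots, (if u = s then (1 : F) else 0) • B F (Sum.inr u) =
            evl F (bv (cc (Sum.inr s))) := by
          rw [Finset.sum_eq_single s]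
          · rw [if_pos rfl, one_smul]; rfl
          · intro u _ hu; rw [if_neg hu, zero_smul]
          · intro h; exact absurd (Finset.mem_univ _) h
        have e2 : ∑ u : Fin chevF4.nroots, ((if u = s then (1 : F) else 0) +
            ((chevF4.chainCoeff r.val s.val u.val).map fun km => ((km.2 : ℤ) : F) * t ^ km.1).sum) • B F (Sum.inr u) =
            evl F (bv (cc (Sum.inr s))) + ∑ u : Fin chevF4.nroots,
            (((chevF4.chainCoeff r.val s.val u.val).map fun km => ((km.2 : ℤ) : F) * t ^ km.1).sum) •
              B F (Sum.inr u) := by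
          simp only [add_smul]
          rw [Finset.sum_add_distrib, e0]
        refine (congrArg₂ (· + ·) e1 e2).trans ?_
        rw [zero_add, add_assoc]
        congr 1
        rcases chain_shape (lt48 r) (lt48 s) with ⟨h3, h4⟩ | ⟨a, ha, h3, h4⟩ | ⟨a, b, ha, hb, h3, h4⟩
        · rw [h3]
          simp [h4]
        · rw [h3]
          simp only [h4]
          have e5 : ∀ u : Fin chevF4.nroots, (((if a.1 = u.val then [(1, a.2)] else []) : List (ℕ × ℤ)).map
              fun km : ℕ × ℤ => ((km.2 : ℤ) : F) * t ^ km.1).sum = if a.1 = u.val then ((a.2 : ℤ) : F) * t else 0 := by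
            intro u
            split_ifs <;> simp
          simp only [e5]
          rw [sum_single a.1 ha]
          simp [smul_smul, mul_comm]
        · rw [h3]
          simp only [h4]
          have e5 : ∀ u : Fin chevF4.nroots, ((((if a.1 = u.val then [(1, a.2)] else []) : List (ℕ × ℤ)) ++
              (if b.1 = u.val then [(2, b.2)] else [])).map
              fun km : ℕ × ℤ => ((km.2 : ℤ) : F) * t ^ km.1).sum = (if a.1 = u.val then ((a.2 : ℤ) : F) * t else 0) +
                if b.1 = u.val then ((b.2 : ℤ) : F) * t ^ 2 else 0 := by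
            intro u
            rw [List.map_append, List.sum_append]
            split_ifs <;> simp
          simp only [e5, add_smul]
          rw [Finset.sum_add_distrib, sum_single a.1 ha, sum_single b.1 hb]
          simp [smul_smul, mul_comm]

end

end Cfsg.Agent.H333.F4J.Conj
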