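import Cfsg.Agent.H333.F4J.Tab
import Cfsg.Agent.H333.F4J.Alg

/-!
# S5926, D1: evaluation of the tables (helper333)
-/

set_option autoImplicit false

namespace Cfsg.Agent.H333.F4J.Ev

open Cfsg.Lie Cfsg.Agent.ChevalleyStructure.E6Min.Tables Cfsg.Agent.ChevalleyStructure.E6Min.Basic
open Cfsg.Agent.ChevalleyStructure.E6Min.Checks2
open Cfsg.Agent.H952.F4 Cfsg.Agent.H333.F4J.Tab Cfsg.Agent.H333.F4J.Alg
open scoped Matrix

section
variable (F : Type*) [CommRing F]

/-- the matrix of a letter -/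
def Lm (k : ℕ) : Matrix I27 I27 F := if k < 72 then Nm F k else Hm F (k - 72)

/-- the matrix of a combination of letters -/
def evl (L : List (ℕ × ℤ)) : Matrix I27 I27 F := (L.map fun e => ((e.2 : ℤ) : F) • Lm F e.1).sum

variable {F}

theorem Lm_of_lt {k : ℕ} (h : k < 72) : Lm F k = Nm F k := if_pos h

theorem Lm_add (i : ℕ) : Lm F (72 + i) = Hm F i := by
  unfold Lm
  rw [if_neg (by omega), Nat.add_sub_cancel_left]

theorem evl_nil : evl F [] = 0 := rfl

theorem evl_cons (e : ℕ × ℤ) (L : List (ℕ × ℤ)) : evl F (e :: L) = ((e.2 : ℤ) : F) • Lm F e.1 + evl F L := by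
  unfold evl
  rw [List.map_cons, List.sum_cons]

theorem evl_append (L L' : List (ℕ × ℤ)) : evl F (L ++ L') = evl F L + evl F L' := by
  unfold evl
  rw [List.map_append, List.sum_append]

theorem evl_scl (c : ℤ) (L : List (ℕ × ℤ)) : evl F (scl c L) = (c : F) • evl F L := by
  induction L with
  | nil => rw [evl_nil, smul_zero]; rfl
  | cons e L ih =>
    have : scl c (e :: L) = (e.1, c * e.2) :: scl c L := rfl
    rw [this, evl_cons, evl_cons, ih, smul_add, smul_smul, Int.cast_mul]

theorem evl_split (k : ℕ) (L : List (ℕ × ℤ)) :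
    evl F L = ((cf k L : ℤ) : F) • Lm F k + evl F (L.filter fun f => !(f.1 == k)) := by
  induction L with
  | nil => simp [evl_nil, cf]
  | cons e L ih =>
    by_cases h : e.1 = k
    · have h1 : cf k (e :: L) = e.2 + cf k L := by
        unfold cf
        rw [List.filter_cons_of_pos (by simpa using h), List.map_cons, List.sum_cons]
      have h2 : ((e :: L).filter fun f => !(f.1 == k)) = L.filter fun f => !(f.1 == k) := by
        rw [List.filter_cons_of_neg (by simpa using h)]
      rw [h1, h2, evl_cons, ih, h, Int.cast_add, add_smul]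
      abel
    · have h1 : cf k (e :: L) = cf k L := by
        unfold cf
        rw [List.filter_cons_of_neg (by simpa using h)]
      have h2 : ((e :: L).filter fun f => !(f.1 == k)) = e :: L.filter fun f => !(f.1 == k) := by
        rw [List.filter_cons_of_pos (by simpa using h)]
      rw [h1, h2, evl_cons, evl_cons, ih]
      abel

theorem zs_sound (n : ℕ) (L : List (ℕ × ℤ)) (h : zs n L = true) : evl F L = 0 := by
  induction n generalizing L with
  | zero =>
    have : L = [] := by simpa [zs] using h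
    rw [this, evl_nil]
  | succ n ih =>
    cases L with
    | nil => exact evl_nil
    | cons e L =>
      have h' : (e.2 + cf e.1 L == 0) = true ∧ zs n (L.filter fun f => !(f.1 == e.1)) = true := by
        simpa [zs] using h
      have h1 : e.2 + cf e.1 L = 0 := by simpa using h'.1
      rw [evl_cons, evl_split e.1 L, ih _ h'.2, add_zero, ← add_smul, ← Int.cast_add, h1, Int.cast_zero, zero_smul]

theorem sum_range_list {M : Type*} [AddCommMonoid M] (f : ℕ → M) (n : ℕ) :
    ((List.range n).map f).sum = ∑ i ∈ Finset.range n, f i := by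
  induction n with
  | zero => rfl
  | succ n ih => rw [List.range_succ, List.map_append, List.sum_append, ih, Finset.sum_range_succ]; simp

theorem brL_spec {a b : ℕ} (ha : a < 72) (hb : b < 78) :
    Lm F a * Lm F b - Lm F b * Lm F a = evl F (brL a b) := by
  unfold brL
  by_cases h : b < 72
  · rw [if_pos h, Lm_of_lt ha, Lm_of_lt h]
    by_cases h1 : b + a = 71
    · rw [if_pos h1]
      have hb : b = 71 - a := by omega
      rw [hb, Nm_bracket_opp ha]
      unfold evl
      rw [List.map_map, sum_range_list]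
      refine Finset.sum_congr rfl fun i _ => ?_
      change _ = ((coN a i : ℤ) : F) • Lm F (72 + i)
      rw [Lm_add]
    · rw [if_neg h1]
      by_cases h2 : kN a b = 127
      · rw [if_pos h2, evl_nil, Nm_comm_of_none ha h h1 h2, sub_self]
      · rw [if_neg h2, Nm_comm_of_some ha h h1 h2, evl_cons, evl_nil, add_zero, Lm_of_lt (kN_lt ha h h2)]
  · rw [if_neg h]
    obtain ⟨i, rfl⟩ : ∃ i, b = 72 + i := ⟨b - 72, by omega⟩
    have hi : i < 6 := by omega
    rw [Lm_of_lt ha, Lm_add, evl_cons, evl_nil, add_zero, Nat.add_sub_cancel_left, Lm_of_lt ha]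
    have := Hm_comm (F := F) ha hi
    rw [Int.cast_neg, neg_smul, ← this]
    abel

theorem evl_brL_map (x : ℤ) (L : List (ℕ × ℤ)) : evl F (L.map fun g => (g.1, x * g.2)) = (x : F) • evl F L :=
  evl_scl x L

theorem br_one {a : ℕ} (ha : a < 72) (x : ℤ) (L' : List (ℕ × ℤ)) (h' : ∀ f ∈ L', f.1 < 78) :
    evl F (L'.flatMap fun f => (brL a f.1).map fun g => (g.1, x * f.2 * g.2)) =
      (x : F) • (Lm F a * evl F L' - evl F L' * Lm F a) := by
  induction L' with
  | nil => simp [evl_nil]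
  | cons f L' ih =>
    rw [List.flatMap_cons, evl_append, ih fun g hg => h' g (List.mem_cons_of_mem _ hg), evl_brL_map, evl_cons,
      ← brL_spec ha (h' f List.mem_cons_self), mul_add, add_mul, mul_smul_comm, smul_mul_assoc, Int.cast_mul,
      mul_smul, smul_sub, ← smul_add]
    congr 1
    abel

theorem br_spec (L L' : List (ℕ × ℤ)) (h : ∀ e ∈ L, e.1 < 72) (h' : ∀ f ∈ L', f.1 < 78) :
    evl F (br L L') = evl F L * evl F L' - evl F L' * evl F L := by
  induction L with
  | nil => simp [br, evl_nil]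
  | cons e L ih =>
    have : br (e :: L) L' = (L'.flatMap fun f => (brL e.1 f.1).map fun g => (g.1, e.2 * f.2 * g.2)) ++ br L L' := rfl
    rw [this, evl_append, ih fun g hg => h g (List.mem_cons_of_mem _ hg), br_one (h e List.mem_cons_self) _ _ h',
      evl_cons, add_mul, mul_add, smul_mul_assoc, mul_smul_comm, smul_sub]
    abel

theorem bv_lt {s : ℕ} (hs : s < 52) : ∀ e ∈ bv s, e.1 < 78 := by
  have := allLt_spec bv_all s hs
  simpa [List.all_eq_true, Nat.blt_eq] using this

theorem dat_lt {s : ℕ} (hs : s < 48) : ∀ e ∈ dat.getD s [], e.1 < 72 := by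
  have := allLt_spec dat_all s hs
  rw [List.all_eq_true] at this
  intro e he
  exact Nat.blt_eq.mp (this e he)

theorem ex_lt {L : List (ℕ × ℤ)} (h : ∀ e ∈ L, e.1 < 52) : ∀ e ∈ ex L, e.1 < 78 := by
  intro e he
  unfold ex scl at he
  rw [List.mem_flatMap] at he
  obtain ⟨f, hf, he⟩ := he
  rw [List.mem_map] at he
  obtain ⟨g, hg, rfl⟩ := he
  exact bv_lt (h f hf) g hg

theorem c_lt {r s : ℕ} (hr : r < 48) (hs : s < 52) : (∀ e ∈ c1 r s, e.1 < 52) ∧ ∀ e ∈ c2 r s, e.1 < 52 := by
  have := allLt_spec (allLt_spec c_all r hr) s hs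
  rw [Bool.and_eq_true, List.all_eq_true, List.all_eq_true] at this
  exact ⟨fun e he => Nat.blt_eq.mp (this.1 e he), fun e he => Nat.blt_eq.mp (this.2 e he)⟩

/-- the three bracket relations -/
theorem rel3 {r s : ℕ} (hr : r < 48) (hs : s < 52) :
    evl F (dat.getD r []) * evl F (bv s) - evl F (bv s) * evl F (dat.getD r []) = evl F (ex (c1 r s)) ∧
    evl F (dat.getD r []) * evl F (ex (c1 r s)) - evl F (ex (c1 r s)) * evl F (dat.getD r []) =
      (2 : F) • evl F (ex (c2 r s)) ∧
    evl F (dat.getD r []) * evl F (ex (c2 r s)) - evl F (ex (c2 r s)) * evl F (dat.getD r []) = 0 := by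
  have h := allLt_spec (allLt_spec chk_all r hr) s hs
  unfold chk at h
  rw [Bool.and_eq_true, Bool.and_eq_true] at h
  obtain ⟨⟨h1, h2⟩, h3⟩ := h
  obtain ⟨l1, l2⟩ := c_lt hr hs
  have e1 := zs_sound (F := F) _ _ h1
  have e2 := zs_sound (F := F) _ _ h2
  have e3 := zs_sound (F := F) _ _ h3
  rw [evl_append, evl_scl, br_spec _ _ (dat_lt hr) (bv_lt hs)] at e1
  rw [evl_append, evl_scl, br_spec _ _ (dat_lt hr) (ex_lt l1)] at e2
  rw [br_spec _ _ (dat_lt hr) (ex_lt l2)] at e3
  refine ⟨?_, ?_, e3⟩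
  · rw [Int.cast_neg, Int.cast_one, neg_smul, one_smul] at e1
    exact (add_neg_eq_zero.mp e1)
  · rw [Int.cast_neg, neg_smul] at e2
    have := add_neg_eq_zero.mp e2
    rw [this]
    norm_num

/-- the shape of `dat` -/
theorem shape {r : ℕ} (hr : r < 48) : (∃ e : ℕ × ℤ, dat.getD r [] = [e] ∧ e.1 < 72 ∧ e.2 * e.2 = 1) ∨
    ∃ e f : ℕ × ℤ, dat.getD r [] = [e, f] ∧ e.1 < 72 ∧ f.1 < 72 ∧ e.2 * e.2 = 1 ∧ f.2 * f.2 = 1 ∧ e.1 ≠ f.1 ∧
      f.1 + e.1 ≠ 71 ∧ kN e.1 f.1 = 127 := by
  have h := allLt_spec shp_all r hr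
  unfold shp at h
  split at h
  · next e he =>
    left
    refine ⟨e, he, ?_⟩
    simpa using h
  · next e f he =>
    right
    refine ⟨e, f, he, ?_⟩
    simp only [Bool.and_eq_true, Nat.blt_eq, beq_iff_eq, Bool.not_eq_true', beq_eq_false_iff_ne] at h
    tauto
  · exact absurd h (by simp)

/-- half of the square of the root vector -/
def Qm (F : Type*) [CommRing F] (r : ℕ) : Matrix I27 I27 F :=
  match dat.getD r [] with
  | [e, f] => (((e.2 * f.2 : ℤ) : F)) • (Nm F e.1 * Nm F f.1)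
  | _ => 0

theorem Bm_eq {r : ℕ} (hr : r < 48) : Bm F r = evl F (dat.getD r []) := by
  unfold Bm evl
  congr 1
  refine List.map_congr_left fun e he => ?_
  rw [Lm_of_lt (dat_lt hr e he)]

theorem Bm_facts {r : ℕ} (hr : r < 48) : (∀ t : F, yM r t = 1 + t • Bm F r + t ^ 2 • Qm F r) ∧
    Bm F r * Bm F r = 2 • Qm F r ∧ Bm F r * Bm F r * Bm F r = 0 := by
  rcases shape hr with ⟨e, he, h1, h2⟩ | ⟨e, f, he, h1, h2, h3, h4, h5, h6, h7⟩
  · have hB : Bm F r = ((e.2 : ℤ) : F) • Nm F e.1 := by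
      unfold Bm; rw [he, List.map_cons, List.map_nil, List.sum_cons, List.sum_nil, add_zero]
    have hQ : Qm F r = 0 := by unfold Qm; rw [he]
    have hBB : Bm F r * Bm F r = 0 := by
      rw [hB, smul_mul_smul_comm, Nm_sq h1, smul_zero]
    refine ⟨fun t => ?_, ?_, ?_⟩
    · unfold yM
      rw [he, List.map_cons, List.map_nil, List.prod_cons, List.prod_nil, mul_one, hB, hQ, smul_zero, add_zero,
        zM_def, smul_smul, mul_comm]
    · rw [hBB, hQ, smul_zero]
    · rw [hBB, zero_mul]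
  · have hB : Bm F r = ((e.2 : ℤ) : F) • Nm F e.1 + ((f.2 : ℤ) : F) • Nm F f.1 := by
      unfold Bm; rw [he, List.map_cons, List.map_cons, List.map_nil, List.sum_cons, List.sum_cons, List.sum_nil,
        add_zero]
    have hQ : Qm F r = (((e.2 * f.2 : ℤ) : F)) • (Nm F e.1 * Nm F f.1) := by unfold Qm; rw [he]
    have hc : Nm F f.1 * Nm F e.1 = Nm F e.1 * Nm F f.1 := (Nm_comm_of_none h1 h2 h6 h7).symm
    have hBB : Bm F r * Bm F r = 2 • Qm F r := by
      rw [hB, hQ, add_mul, mul_add, mul_add, smul_mul_smul_comm, smul_mul_smul_comm, smul_mul_smul_comm,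
        smul_mul_smul_comm, Nm_sq h1, Nm_sq h2, smul_zero, smul_zero, hc, zero_add, add_zero, two_nsmul, Int.cast_mul,
        mul_comm ((f.2 : ℤ) : F)]
    refine ⟨fun t => ?_, hBB, ?_⟩
    · unfold yM
      rw [he, List.map_cons, List.map_cons, List.map_nil, List.prod_cons, List.prod_cons, List.prod_nil, mul_one, hB,
        hQ, zM_def, zM_def, add_mul, mul_add, mul_add, one_mul, one_mul, mul_one, smul_mul_smul_comm, smul_add,
        smul_smul, smul_smul, smul_smul, Int.cast_mul]
      have e1 : ((e.2 : ℤ) : F) * t * (((f.2 : ℤ) : F) * t) = t ^ 2 * (((e.2 : ℤ) : F) * ((f.2 : ℤ) : F)) := by ring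
      rw [e1, mul_comm ((e.2 : ℤ) : F) t, mul_comm ((f.2 : ℤ) : F) t]
      abel
    · have e1 : Nm F e.1 * Nm F f.1 * Nm F e.1 = 0 := by rw [← hc, mul_assoc, Nm_sq h1, mul_zero]
      have e2 : Nm F e.1 * Nm F f.1 * Nm F f.1 = 0 := by rw [mul_assoc, Nm_sq h2, mul_zero]
      rw [hBB, hB, hQ, smul_mul_assoc, smul_mul_assoc, mul_add, mul_smul_comm, mul_smul_comm, e1, e2]
      simp

end

end Cfsg.Agent.H333.F4J.Ev
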