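import Cfsg.Agent.H333.F4J.Tab0

/-! Kernel checks of the bracket identities, part 2 (split to save memory). -/

set_option autoImplicit false

namespace Cfsg.Agent.H333.F4J.Tab

open Cfsg.Lie Cfsg.Agent.ChevalleyStructure.E6Min.Tables Cfsg.Agent.ChevalleyStructure.E6Min.Checks2
open Cfsg.Agent.H952.F4

theorem chk_6 : allLt 4 (fun i => allLt 52 fun s => chk (i + 24) s) = true := by decide +kernel

theorem chk_7 : allLt 4 (fun i => allLt 52 fun s => chk (i + 28) s) = true := by decide +kernel

theorem chk_8 : allLt 4 (fun i => allLt 52 fun s => chk (i + 32) s) = true := by decide +kernel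

end Cfsg.Agent.H333.F4J.Tab
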