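import Cfsg.Agent.H333.F4J.TabC0
import Cfsg.Agent.H333.F4J.TabC1
import Cfsg.Agent.H333.F4J.TabC2
import Cfsg.Agent.H333.F4J.TabC3

/-!
# S5926, D1: the 27-dimensional module of F₄, kernel checks (helper333), assembled
-/

set_option autoImplicit false

namespace Cfsg.Agent.H333.F4J.Tab

open Cfsg.Lie Cfsg.Agent.ChevalleyStructure.E6Min.Tables Cfsg.Agent.ChevalleyStructure.E6Min.Checks2
open Cfsg.Agent.H952.F4

theorem chk_all : allLt 48 (fun r => allLt 52 fun s => chk r s) = true := by
  refine allLt_of fun k hk => ?_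
  rcases Nat.lt_or_ge k 4 with h | h
  · have h1 := allLt_spec chk_0 (k - 0) (by omega)
    rwa [Nat.sub_add_cancel (by omega)] at h1
  rcases Nat.lt_or_ge k 8 with h | h
  · have h1 := allLt_spec chk_1 (k - 4) (by omega)
    rwa [Nat.sub_add_cancel (by omega)] at h1
  rcases Nat.lt_or_ge k 12 with h | h
  · have h1 := allLt_spec chk_2 (k - 8) (by omega)
    rwa [Nat.sub_add_cancel (by omega)] at h1
  rcases Nat.lt_or_ge k 16 with h | h
  · have h1 := allLt_spec chk_3 (k - 12) (by omega)
    rwa [Nat.sub_add_cancel (by omega)] at h1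
  rcases Nat.lt_or_ge k 20 with h | h
  · have h1 := allLt_spec chk_4 (k - 16) (by omega)
    rwa [Nat.sub_add_cancel (by omega)] at h1
  rcases Nat.lt_or_ge k 24 with h | h
  · have h1 := allLt_spec chk_5 (k - 20) (by omega)
    rwa [Nat.sub_add_cancel (by omega)] at h1
  rcases Nat.lt_or_ge k 28 with h | h
  · have h1 := allLt_spec chk_6 (k - 24) (by omega)
    rwa [Nat.sub_add_cancel (by omega)] at h1
  rcases Nat.lt_or_ge k 32 with h | h
  · have h1 := allLt_spec chk_7 (k - 28) (by omega)
    rwa [Nat.sub_add_cancel (by omega)] at h1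
  rcases Nat.lt_or_ge k 36 with h | h
  · have h1 := allLt_spec chk_8 (k - 32) (by omega)
    rwa [Nat.sub_add_cancel (by omega)] at h1
  rcases Nat.lt_or_ge k 40 with h | h
  · have h1 := allLt_spec chk_9 (k - 36) (by omega)
    rwa [Nat.sub_add_cancel (by omega)] at h1
  rcases Nat.lt_or_ge k 44 with h | h
  · have h1 := allLt_spec chk_10 (k - 40) (by omega)
    rwa [Nat.sub_add_cancel (by omega)] at h1
  have h1 := allLt_spec chk_11 (k - 44) (by omega)
  rwa [Nat.sub_add_cancel (by omega)] at h1

/-- shape of the chain table -/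
def chE (r s : ℕ) : Bool :=
  match (chevF4.chain.getD r #[]).toList.filter (fun e => e.1 = s) with
  | [] => true
  | [e] => match e.2.toList with
    | [a] => Nat.blt a.1 48
    | [a, b] => Nat.blt a.1 48 && Nat.blt b.1 48
    | _ => false
  | _ => false

theorem chE_all : allLt 48 (fun r => allLt 48 fun s => chE r s) = true := by decide +kernel

/-- shape of the table `dat` -/
def shp (r : ℕ) : Bool :=
  match dat.getD r [] with
  | [e] => Nat.blt e.1 72 && (e.2 * e.2 == 1)
  | [e, f] => Nat.blt e.1 72 && Nat.blt f.1 72 && (e.2 * e.2 == 1) && (f.2 * f.2 == 1) && !(e.1 == f.1) &&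
      !(f.1 + e.1 == 71) && !(e.1 + f.1 == 71) && (kN e.1 f.1 == 127) && (kN f.1 e.1 == 127)
  | _ => false

theorem shp_all : allLt 48 (fun r => shp r) = true := by decide +kernel

theorem neg_all : allLt 48 (fun r => Nat.blt (chevF4.negIdx.getD r 0) 48 && !(chevF4.negIdx.getD r 0 == r)) = true := by
  decide +kernel

/-- all letters of the basis vectors are in range -/
theorem bv_all : allLt 52 (fun s => (bv s).all fun e => Nat.blt e.1 78) = true := by decide +kernel

theorem dat_all : allLt 48 (fun s => (dat.getD s []).all fun e => Nat.blt e.1 72) = true := by decide +kernel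

/-- all indices of `c1`, `c2` are in range -/
theorem c_all : allLt 48 (fun r => allLt 52 fun s =>
    ((c1 r s).all fun e => Nat.blt e.1 52) && ((c2 r s).all fun e => Nat.blt e.1 52)) = true := by decide +kernel

end Cfsg.Agent.H333.F4J.Tab
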