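import Cfsg.Agent.H952.F4.Defs

/-!
# S5926, D1: the 27-dimensional module of F₄, kernel checks (helper333)

Root vectors of `F₄` are combinations (`dat`) of root vectors of `E₆`; letters `k < 72` denote `N_k`, letters `72 + i`
denote `H_i`.
-/

set_option autoImplicit false

namespace Cfsg.Agent.H333.F4J.Tab

open Cfsg.Lie Cfsg.Agent.ChevalleyStructure.E6Min.Tables Cfsg.Agent.ChevalleyStructure.E6Min.Checks2
open Cfsg.Agent.H952.F4

/-- bracket of two letters -/
def brL (a b : ℕ) : List (ℕ × ℤ) :=
  if b < 72 then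
    if b + a = 71 then (List.range 6).map fun i => (72 + i, coN a i)
    else if kN a b = 127 then [] else [(kN a b, cN a b)]
  else [(a, -carN (b - 72) a)]

/-- bracket of two combinations -/
def br (L L' : List (ℕ × ℤ)) : List (ℕ × ℤ) :=
  L.flatMap fun e => L'.flatMap fun f => (brL e.1 f.1).map fun g => (g.1, e.2 * f.2 * g.2)

/-- multiple of a combination -/
def scl (c : ℤ) (L : List (ℕ × ℤ)) : List (ℕ × ℤ) := L.map fun e => (e.1, c * e.2)

/-- sum of the coefficients with a given letter -/
def cf (k : ℕ) (L : List (ℕ × ℤ)) : ℤ := ((L.filter fun e => e.1 == k).map fun e => e.2).sum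

/-- check that a combination is zero -/
def zs : ℕ → List (ℕ × ℤ) → Bool
  | 0, L => L.isEmpty
  | _ + 1, [] => true
  | n + 1, e :: L => (e.2 + cf e.1 L == 0) && zs n (L.filter fun f => !(f.1 == e.1))

/-- the `i`-th simple coroot as a combination of letters -/
def hv (i : ℕ) : List (ℕ × ℤ) :=
  (dat.getD (chevF4.simpleIdx.getD i 0) []).flatMap fun e => (List.range 6).map fun j => (72 + j, coN e.1 j)

/-- the basis vectors (`s < 48` a root, `48 + i` a simple coroot) -/
def bv (s : ℕ) : List (ℕ × ℤ) := if s < 48 then dat.getD s [] else hv (s - 48)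

/-- expand a combination of basis vectors -/
def ex (L : List (ℕ × ℤ)) : List (ℕ × ℤ) := L.flatMap fun e => scl e.2 (bv e.1)

/-- the chain of `r, s` -/
def chF (r s : ℕ) : List (ℕ × ℤ) :=
  match (chevF4.chain.getD r #[]).toList.filter (fun e => e.1 = s) with
  | [] => []
  | e :: _ => e.2.toList

/-- the coefficient of `t` of the column `s` of `x_r(t)` -/
def c1 (r s : ℕ) : List (ℕ × ℤ) :=
  if s < 48 then
    if s = r then []
    else if s = chevF4.negIdx.getD r 0 then (List.range 4).map fun i => (48 + i, (chevF4.coroot.getD r #[]).getD i 0)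
    else (chF r s).take 1
  else [(r, -((chevF4.cartanSR.getD (s - 48) #[]).getD r 0))]

/-- the coefficient of `t²` of the column `s` of `x_r(t)` -/
def c2 (r s : ℕ) : List (ℕ × ℤ) :=
  if s < 48 then
    if s = r then []
    else if s = chevF4.negIdx.getD r 0 then [(r, -1)]
    else (chF r s).drop 1
  else []

/-- the three bracket identities -/
def chk (r s : ℕ) : Bool :=
  zs 60 (br (dat.getD r []) (bv s) ++ scl (-1) (ex (c1 r s))) &&
  zs 60 (br (dat.getD r []) (ex (c1 r s)) ++ scl (-2) (ex (c2 r s))) &&
  zs 60 (br (dat.getD r []) (ex (c2 r s)))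

theorem allLt_of {n : ℕ} {p : ℕ → Bool} (h : ∀ k, k < n → p k = true) : allLt n p = true := by
  induction n with
  | zero => rfl
  | succ n ih =>
    show (p n && allLt n p) = true
    rw [h n (Nat.lt_succ_self n), ih fun k hk => h k (Nat.lt_succ_of_lt hk)]
    rfl

end Cfsg.Agent.H333.F4J.Tab
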